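import Cfsg.Agent.S4364
import Cfsg.Agent.Core.Cores
import Cfsg.Agent.Core.SchurZassenhaus
import Cfsg.Agent.Coprime.Conjugacy

/-!
Baer's theorem on groups in which the elements of `q`-power order have classes of prime power
size: the Sylow `q`-subgroup is abelian or a direct factor, and one prime serves for all classes.
-/

set_option autoImplicit false
set_option linter.unusedSectionVars false
set_option linter.style.haveILetI false

namespace Cfsg.Agent.FGS3.BaerPrime

open Subgroup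
open scoped Pointwise

section Average

variable {Γ Z : Type*} [Group Γ] [Finite Γ] [CommGroup Z] [Finite Z] [MulDistribMulAction Γ Z]

/-- Orbits of coprime sizes do not combine to an orbit of prime power size. -/
theorem average (hcop : (Nat.card Γ).Coprime (Nat.card Z)) (A B K : Subgroup Γ) (z w : Z)
    (hA : ∀ a ∈ A, a • z = z) (hB : ∀ b ∈ B, b • w = w) (hK : ∀ k ∈ K, k • (z * w) = z * w)
    (hBA : ∀ g : Γ, ∃ b ∈ B, ∃ a ∈ A, g = b * a) (hKB : ∀ g : Γ, ∃ k ∈ K, ∃ b ∈ B, g = k * b) :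
    ∀ g : Γ, g • w = w := by
  classical
  haveI := Fintype.ofFinite Γ
  let P : Subgroup Γ → Z → Z := fun H x => ∏ h : H, (h : Γ) • x
  have hmul : ∀ (H : Subgroup Γ) (x y : Z), P H (x * y) = P H x * P H y := fun H x y => by
    simp only [P, smul_mul', Finset.prod_mul_distrib]
  have hfixed : ∀ (H : Subgroup Γ) (x : Z), (∀ h ∈ H, h • x = x) → P H x = x ^ Nat.card H := by
    intro H x hx
    simp only [P]
    rw [Finset.prod_congr rfl (fun (h : H) _ => hx (h : Γ) h.2), Finset.prod_const, Finset.card_univ,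
      Nat.card_eq_fintype_card]
  have hshift : ∀ (H : Subgroup Γ) (x : Z) (h : Γ), h ∈ H → P H (h • x) = P H x := by
    intro H x h hh
    simp only [P, ← mul_smul]
    exact Fintype.prod_equiv (Equiv.mulRight (⟨h, hh⟩ : H)) _ _ (fun y => by simp)
  have hinj : ∀ m : ℕ, m ∣ Nat.card Γ → Function.Injective (fun x : Z => x ^ m) := fun m hm =>
    (powCoprime ((hcop.coprime_dvd_left hm).symm)).injective
  -- the average of `w` over `K` is fixed
  set I : Z := ∏ g : Γ, g • w with hI
  have hIfix : ∀ g : Γ, g • I = I := fun g => by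
    rw [hI, Finset.smul_prod']
    exact Fintype.prod_equiv (Equiv.mulLeft g) _ _ (fun y => by simp [mul_smul])
  have hPKw : ∀ g : Γ, P K (g • w) = P K w := by
    intro g
    obtain ⟨k, hk, b, hb, rfl⟩ := hKB g
    rw [mul_smul, hB b hb, hshift K w k hk]
  have hpow : (P K w) ^ Nat.card Γ = I ^ Nat.card K := by
    rw [← hfixed K I (fun k _ => hIfix k)]
    calc (P K w) ^ Nat.card Γ = ∏ g : Γ, P K (g • w) := by
          rw [Finset.prod_congr rfl (fun g _ => hPKw g), Finset.prod_const, Finset.card_univ,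
            Nat.card_eq_fintype_card]
      _ = P K I := by
          simp only [P, hI, Finset.smul_prod']
          exact Finset.prod_comm
  have hPKfix : ∀ g : Γ, g • P K w = P K w := fun g => by
    apply hinj _ dvd_rfl
    show (g • P K w) ^ Nat.card Γ = (P K w) ^ Nat.card Γ
    rw [← smul_pow', hpow, smul_pow', hIfix]
  have hPBK : P B (P K z) = (P B z) ^ Nat.card K := by
    have hPBz : ∀ g : Γ, P B (g • z) = P B z := by
      intro g
      obtain ⟨b, hb, a, ha, rfl⟩ := hBA g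
      rw [mul_smul, hA a ha, hshift B z b hb]
    calc P B (P K z) = ∏ k : K, P B ((k : Γ) • z) := by
          simp only [P, Finset.smul_prod']
          exact Finset.prod_comm
      _ = (P B z) ^ Nat.card K := by
          rw [Finset.prod_congr rfl (fun (k : K) _ => hPBz (k : Γ)), Finset.prod_const, Finset.card_univ,
            Nat.card_eq_fintype_card]
  have h1 : P K z * P K w = (z * w) ^ Nat.card K := by rw [← hmul, hfixed K _ hK]
  have h2 : (P K w) ^ Nat.card B = w ^ (Nat.card B * Nat.card K) := by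
    have h3 := congrArg (P B) h1
    have hPpow : ∀ x : Z, P B (x ^ Nat.card K) = (P B x) ^ Nat.card K := fun x => by
      simp only [P, smul_pow', Finset.prod_pow]
    rw [hmul, hPBK, hfixed B (P K w) (fun b _ => hPKfix b), hPpow, hmul, hfixed B w hB, mul_pow,
      ← pow_mul] at h3
    exact mul_left_cancel h3
  intro g
  have hcop' : (Nat.card B * Nat.card K).Coprime (Nat.card Z) :=
    Nat.Coprime.mul_left (hcop.coprime_dvd_left (card_subgroup_dvd_card B))
      (hcop.coprime_dvd_left (card_subgroup_dvd_card K))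
  apply (powCoprime hcop'.symm).injective
  show (g • w) ^ (Nat.card B * Nat.card K) = w ^ (Nat.card B * Nat.card K)
  rw [← smul_pow', ← h2, smul_pow', hPKfix]

end Average

variable {G : Type*} [Group G] [Finite G] {q : ℕ} [hq : Fact q.Prime]

/-- Two subgroups of coprime index multiply to the whole group. -/
theorem exists_mul_eq {H K : Subgroup G} (h : H.index.Coprime K.index) (g : G) :
    ∃ a ∈ H, ∃ b ∈ K, g = a * b := by
  let f : H ⧸ K.subgroupOf H → G ⧸ K := Quotient.map' (fun x : H => (x : G)) (fun x y hxy => by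
    rw [QuotientGroup.leftRel_apply] at hxy ⊢
    exact Subgroup.mem_subgroupOf.1 hxy)
  have hinj : Function.Injective f := by
    intro x y
    induction x using Quotient.inductionOn' with | h x => ?_
    induction y using Quotient.inductionOn' with | h y => ?_
    intro hxy
    have e : (x : G)⁻¹ * y ∈ K := QuotientGroup.eq.1 hxy
    exact QuotientGroup.eq.2 (Subgroup.mem_subgroupOf.2 e)
  have hcard : Nat.card (G ⧸ K) ≤ Nat.card (H ⧸ K.subgroupOf H) := by
    rw [← Subgroup.index_eq_card, ← Subgroup.index_eq_card]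
    show K.index ≤ K.relIndex H
    refine Nat.le_of_dvd (Nat.pos_of_ne_zero (FiniteIndex.index_ne_zero (H := K.subgroupOf H))) ?_
    have e : K.relIndex H * H.index = (K ⊓ H).index := by
      rw [← Subgroup.inf_relIndex_right, Subgroup.relIndex_mul_index inf_le_right]
    exact h.symm.dvd_of_dvd_mul_right (e ▸ Subgroup.index_dvd_of_le inf_le_left)
  obtain ⟨x, hx⟩ := (hinj.bijective_of_nat_card_le hcard).2 (g : G ⧸ K)
  induction x using Quotient.inductionOn' with | h x => ?_
  exact ⟨x, x.2, (x : G)⁻¹ * g, QuotientGroup.eq.1 hx, (mul_inv_cancel_left _ _).symm⟩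

/-- A centraliser of index prime to `q` contains a Sylow `q`-subgroup. -/
theorem exists_sylow_le {H : Subgroup G} (h : ¬ q ∣ H.index) : ∃ S : Sylow q G, (S : Subgroup G) ≤ H := by
  obtain ⟨S⟩ := (inferInstance : Nonempty (Sylow q H))
  have hi : ¬ q ∣ ((S : Subgroup H).map H.subtype).index := by
    rw [index_map_subtype]
    exact hq.out.not_dvd_mul S.not_dvd_index h
  exact ⟨(S.2.map H.subtype).toSylow hi, map_subtype_le (S : Subgroup H)⟩

/-- The class size of `x` is a power of `p`. -/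
def PPow (p : ℕ) (x : G) : Prop := ∃ a : ℕ, (Subgroup.centralizer ({x} : Set G)).index = p ^ a

/-- The hypothesis of Baer. -/
def Hyp (q : ℕ) (G : Type*) [Group G] : Prop :=
  ∀ x : G, (∃ k : ℕ, orderOf x = q ^ k) →
    ∃ (r a : ℕ), r.Prime ∧ (Subgroup.centralizer ({x} : Set G)).index = r ^ a

theorem hyp_quotient (hB : Hyp q G) (N : Subgroup G) [N.Normal] : Hyp q (G ⧸ N) := by
  rintro y ⟨j, hj⟩
  obtain ⟨x, rfl⟩ := QuotientGroup.mk'_surjective N y
  obtain ⟨k, m, hm, hkm⟩ := Nat.exists_eq_pow_mul_and_not_dvd (orderOf_pos x).ne' q hq.out.ne_one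
  have hcop : m.Coprime (q ^ j) := ((hq.out.coprime_iff_not_dvd).2 hm).symm.pow_right _
  obtain ⟨e, -, he⟩ := Nat.exists_mul_mod_eq_of_coprime (n := m) (k := q ^ j) 1 hcop (pow_pos hq.out.pos _).ne'
  have hy : QuotientGroup.mk' N (x ^ (m * e)) = QuotientGroup.mk' N x := by
    rw [map_pow, ← pow_mod_orderOf, hj, he, ← hj, pow_mod_orderOf, pow_one]
  have ho : ∃ l, orderOf (x ^ (m * e)) = q ^ l := by
    refine ((Nat.dvd_prime_pow hq.out).1 (orderOf_dvd_of_pow_eq_one (n := q ^ k) ?_)).imp fun l h => h.2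
    rw [← pow_mul, show m * e * q ^ k = (q ^ k * m) * e by ring, ← hkm, pow_mul, pow_orderOf_eq_one, one_pow]
  obtain ⟨r, a, hr, ha⟩ := hB _ ho
  have hle : (Subgroup.centralizer ({x ^ (m * e)} : Set G)).map (QuotientGroup.mk' N) ≤
      Subgroup.centralizer ({QuotientGroup.mk' N x} : Set (G ⧸ N)) := by
    rintro _ ⟨g, hg, rfl⟩
    rw [Subgroup.mem_centralizer_singleton_iff, ← hy, ← map_mul, ← map_mul,
      Subgroup.mem_centralizer_singleton_iff.1 hg]
  obtain ⟨b, -, hb⟩ := (Nat.dvd_prime_pow hr).1 (ha ▸ (index_dvd_of_le hle).trans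
    (Subgroup.index_map_dvd _ (QuotientGroup.mk'_surjective N)))
  exact ⟨r, b, hr, hb⟩

/-- The preimage of `O_q(G/O_p(G))`. -/
def L (q p : ℕ) (G : Type*) [Group G] : Subgroup G :=
  (Cfsg.pCore q (G ⧸ Cfsg.pCore p G)).comap (QuotientGroup.mk' (Cfsg.pCore p G))

instance (q p : ℕ) (G : Type*) [Group G] : (L q p G).Normal :=
  (Cfsg.pCore_normal q _).comap _

/-- An element of `q`-power order with class of `p`-power size lies in `O_{p,q}(G)`. -/
theorem mem_L {p : ℕ} [Fact p.Prime] {y : G} (hy : ∃ k, orderOf y = q ^ k) (hp : PPow p y) :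
    y ∈ L q p G := by
  set f := QuotientGroup.mk' (Cfsg.pCore p G) with hf
  set S : Set (G ⧸ Cfsg.pCore p G) := Set.range fun g : G => f (g * y * g⁻¹) with hS
  have hcomm : ∀ u ∈ S, ∀ v ∈ S, u * v = v * u := by
    rintro _ ⟨g, rfl⟩ _ ⟨h, rfl⟩
    have := (QuotientGroup.eq_one_iff _).2 (S4364.commutator_conj_mem p y hp g h)
    rw [← QuotientGroup.mk'_apply, ← hf, map_mul, map_mul, map_mul, map_inv, map_inv,
      mul_inv_eq_one, mul_inv_eq_iff_eq_mul] at this
    exact this
  set N := Subgroup.closure S with hN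
  haveI : IsMulCommutative N := Subgroup.isMulCommutative_closure hcomm
  have hNn : N.Normal := by
    refine ⟨fun x hx u => ?_⟩
    have hle : N.map (MulAut.conj u).toMonoidHom ≤ N := by
      rw [hN, MonoidHom.map_closure, Subgroup.closure_le]
      rintro _ ⟨_, ⟨g, rfl⟩, rfl⟩
      obtain ⟨u, rfl⟩ := QuotientGroup.mk'_surjective _ u
      exact Subgroup.subset_closure ⟨u * g, by simp [f, mul_assoc]⟩
    exact hle ⟨x, hx, rfl⟩
  obtain ⟨k, hk⟩ := hy
  have hNq : IsPGroup q N := by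
    rintro ⟨x, hx⟩
    refine ⟨k, Subtype.ext ?_⟩
    show x ^ q ^ k = 1
    induction hx using Subgroup.closure_induction with
    | mem u hu =>
      obtain ⟨g, rfl⟩ := hu
      rw [← map_pow, conj_pow, ← hk, pow_orderOf_eq_one, mul_one, mul_inv_cancel, map_one]
    | one => exact one_pow _
    | mul u v hu hv ihu ihv =>
      have hc : (⟨u, hu⟩ : N) * ⟨v, hv⟩ = ⟨v, hv⟩ * ⟨u, hu⟩ := mul_comm' _ _
      rw [(show Commute u v from congrArg Subtype.val hc).mul_pow, ihu, ihv, one_mul]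
    | inv u hu ihu => rw [inv_pow, ihu, inv_one]
  exact Core.le_pCore hNn hNq (Subgroup.subset_closure ⟨1, by simp [f]⟩)

theorem L_self : L q q G = Cfsg.pCore q G := by
  show Subgroup.comap _ _ = _
  rw [Core.comap_pCore_quotient _ (Core.isPGroup_pCore q G)]

/-- `O_{s,q} ∩ O_{t,q}` is a `q`-group. -/
theorem L_inf_le {s t : ℕ} [hs : Fact s.Prime] [ht : Fact t.Prime] (hst : s ≠ t) :
    L q s G ⊓ L q t G ≤ Cfsg.pCore q G := by
  refine Core.le_pCore inferInstance ?_
  rintro ⟨x, hxs, hxt⟩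
  obtain ⟨i, hi⟩ := Core.isPGroup_pCore q _ ⟨_, hxs⟩
  obtain ⟨j, hj⟩ := Core.isPGroup_pCore q _ ⟨_, hxt⟩
  have hi' : x ^ q ^ i ∈ Cfsg.pCore s G := by
    rw [← QuotientGroup.eq_one_iff, QuotientGroup.mk_pow]
    exact congrArg Subtype.val hi
  have hj' : x ^ q ^ j ∈ Cfsg.pCore t G := by
    rw [← QuotientGroup.eq_one_iff, QuotientGroup.mk_pow]
    exact congrArg Subtype.val hj
  refine ⟨i + j, Subtype.ext ?_⟩
  show x ^ q ^ (i + j) = 1
  have h1 : x ^ q ^ (i + j) ∈ Cfsg.pCore s G ⊓ Cfsg.pCore t G := by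
    refine ⟨?_, ?_⟩
    · rw [pow_add, pow_mul]; exact Subgroup.pow_mem _ hi' _
    · rw [pow_add, mul_comm, pow_mul]; exact Subgroup.pow_mem _ hj' _
  rwa [IsPGroup.disjoint_of_ne s t hst _ _ (Core.isPGroup_pCore s G) (Core.isPGroup_pCore t G) |>.eq_bot,
    Subgroup.mem_bot] at h1

theorem q_element_of_mem {Q : Sylow q G} {x : G} (hx : x ∈ (Q : Subgroup G)) :
    ∃ k, orderOf x = q ^ k := by
  obtain ⟨k, hk⟩ := IsPGroup.iff_orderOf.1 Q.2 ⟨x, hx⟩
  exact ⟨k, by rw [← hk, ← Subgroup.orderOf_coe]⟩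

theorem index_centralizer_conj (g x : G) :
    (Subgroup.centralizer ({g * x * g⁻¹} : Set G)).index =
      (Subgroup.centralizer ({x} : Set G)).index := by
  have h : Subgroup.centralizer ({g * x * g⁻¹} : Set G) =
      (Subgroup.centralizer ({x} : Set G)).map (MulAut.conj g).toMonoidHom := by
    ext y
    rw [Coprime.map_conj_mem, Subgroup.mem_centralizer_singleton_iff,
      Subgroup.mem_centralizer_singleton_iff]
    refine ⟨fun e => ?_, fun e => ?_⟩
    · calc g⁻¹ * y * g * x = g⁻¹ * (y * (g * x * g⁻¹)) * g := by group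
        _ = x * (g⁻¹ * y * g) := by rw [e]; group
    · calc y * (g * x * g⁻¹) = g * (g⁻¹ * y * g * x) * g⁻¹ := by group
        _ = g * x * g⁻¹ * y := by rw [e]; group
  rw [h]
  exact Subgroup.index_map_of_bijective (MulAut.conj g).bijective _

variable (Q : Sylow q G)

theorem exists_conj_mem {x : G} (hx : ∃ k, orderOf x = q ^ k) :
    ∃ g : G, g * x * g⁻¹ ∈ (Q : Subgroup G) := by
  obtain ⟨k, hk⟩ := hx
  obtain ⟨S, hS⟩ := (IsPGroup.of_card (p := q) (G := Subgroup.zpowers x) (n := k)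
    (by rw [Nat.card_zpowers, hk])).exists_le_sylow
  obtain ⟨g, rfl⟩ := MulAction.exists_smul_eq G S Q
  exact ⟨g, ⟨x, hS (Subgroup.mem_zpowers x), by simp⟩⟩

/-- If `Q` is not normal, `O_q(G)` is central in `Q`. -/
theorem core_central (hB : Hyp q G) (hQ : ¬ (Q : Subgroup G).Normal) :
    ∀ a ∈ Cfsg.pCore q G, ∀ x ∈ (Q : Subgroup G), a * x = x * a := by
  have hcase : ∀ x ∈ (Q : Subgroup G), x ∈ Cfsg.pCore q G ∨
      x ∈ Subgroup.centralizer (Cfsg.pCore q G : Set G) := by
    intro x hx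
    obtain ⟨r, a, hr, ha⟩ := hB x (q_element_of_mem hx)
    haveI := Fact.mk hr
    by_cases hrq : r = q
    · rw [hrq] at ha
      exact Or.inl (L_self (G := G) (q := q) ▸ mem_L (p := q) (q_element_of_mem hx) ⟨a, ha⟩)
    · obtain ⟨S, hS⟩ := exists_sylow_le (q := q) (H := Subgroup.centralizer ({x} : Set G))
        (ha ▸ fun h => hrq ((Nat.prime_dvd_prime_iff_eq hq.out hr).1 (hq.out.dvd_of_dvd_pow h)).symm)
      refine Or.inr (Subgroup.mem_centralizer_iff.2 fun a' ha' => ?_)
      exact Subgroup.mem_centralizer_singleton_iff.1 (hS (Core.pCore_le_sylow S ha'))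
  intro a ha x hx
  by_contra hne
  have hxC : x ∉ Subgroup.centralizer (Cfsg.pCore q G : Set G) := fun h =>
    hne (Subgroup.mem_centralizer_iff.1 h a ha)
  refine hQ ?_
  suffices h : (Q : Subgroup G) = Cfsg.pCore q G by rw [h]; infer_instance
  refine le_antisymm (fun u hu => ?_) (Core.pCore_le_sylow Q)
  rcases hcase u hu with h | h
  · exact h
  rcases hcase (u * x) (mul_mem hu hx) with h' | h'
  · have := mul_mem h' (inv_mem ((hcase x hx).resolve_right hxC))
    rwa [mul_inv_cancel_right] at this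
  · exact absurd (by simpa using mul_mem (inv_mem h) h') hxC

/-- If `Q` is not normal, it is commutative. -/
theorem comm_of_not_normal (hB : Hyp q G) (hQ : ¬ (Q : Subgroup G).Normal) :
    ∀ x ∈ (Q : Subgroup G), ∀ z ∈ (Q : Subgroup G), x * z = z * x := by
  intro x hx z hz
  obtain ⟨r, a, hr, ha⟩ := hB z (q_element_of_mem hz)
  haveI := Fact.mk hr
  by_cases hrq : r = q
  · rw [hrq] at ha
    exact (core_central Q hB hQ z (L_self (G := G) (q := q) ▸ mem_L (p := q) (q_element_of_mem hz) ⟨a, ha⟩) x hx).symm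
  set O := Cfsg.pCore r G with hO
  set f := QuotientGroup.mk' O with hf
  set Qb := Q.mapSurjective (f := f) (QuotientGroup.mk'_surjective O) with hQb
  have hzb : f z ∈ Cfsg.pCore q (G ⧸ O) := mem_L (q_element_of_mem hz) ⟨a, ha⟩
  have hxb : f x ∈ (Qb : Subgroup (G ⧸ O)) := ⟨x, hx, rfl⟩
  have hcomm : f x * f z = f z * f x := by
    by_cases hn : (Qb : Subgroup (G ⧸ O)).Normal
    · have hle : (Subgroup.centralizer ({z} : Set G)).map f ≤ Subgroup.centralizer ({f z} : Set (G ⧸ O)) := by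
        rintro _ ⟨g, hg, rfl⟩
        rw [Subgroup.mem_centralizer_singleton_iff, ← map_mul, ← map_mul,
          Subgroup.mem_centralizer_singleton_iff.1 hg]
      have hnd : ¬ q ∣ (Subgroup.centralizer ({f z} : Set (G ⧸ O))).index := fun h =>
        hrq ((Nat.prime_dvd_prime_iff_eq hq.out hr).1 (hq.out.dvd_of_dvd_pow (ha ▸ h.trans
          ((index_dvd_of_le hle).trans (Subgroup.index_map_dvd _ (QuotientGroup.mk'_surjective O)))))).symm
      obtain ⟨S, hS⟩ := exists_sylow_le (q := q) hnd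
      haveI := Sylow.unique_of_normal Qb hn
      rw [Subsingleton.elim S Qb] at hS
      exact Subgroup.mem_centralizer_singleton_iff.1 (hS hxb)
    · exact (core_central Qb (hyp_quotient hB O) hn _ hzb _ hxb).symm
  have hmem : x * z * x⁻¹ * z⁻¹ ∈ O := by
    rw [← QuotientGroup.eq_one_iff, ← QuotientGroup.mk'_apply, ← hf, map_mul, map_mul, map_mul,
      map_inv, map_inv, hcomm]
    group
  have hmem2 : x * z * x⁻¹ * z⁻¹ ∈ (Q : Subgroup G) :=
    mul_mem (mul_mem (mul_mem hx hz) (inv_mem hx)) (inv_mem hz)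
  have := IsPGroup.disjoint_of_ne r q hrq _ _ (Core.isPGroup_pCore r G) Q.2
  rw [disjoint_iff] at this
  have h1 : x * z * x⁻¹ * z⁻¹ ∈ O ⊓ (Q : Subgroup G) := ⟨hmem, hmem2⟩
  rw [this, Subgroup.mem_bot, mul_inv_eq_one, mul_inv_eq_iff_eq_mul] at h1
  exact h1

/-- If `Q` is normal and not commutative it is centralised by a complement. -/
theorem direct_of_normal_noncomm (hB : Hyp q G) (hQ : (Q : Subgroup G).Normal)
    (hnc : ¬ ∀ x ∈ (Q : Subgroup G), ∀ z ∈ (Q : Subgroup G), x * z = z * x) :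
    ∃ N : Subgroup G, N.Normal ∧ N.IsComplement' (Q : Subgroup G) ∧
      ∀ n ∈ N, ∀ x ∈ (Q : Subgroup G), n * x = x * n := by
  haveI := hQ
  have hcop : (Nat.card (Q : Subgroup G)).Coprime (Q : Subgroup G).index := Q.card_coprime_index
  obtain ⟨H, hH⟩ := Subgroup.exists_right_complement'_of_coprime hcop
  have hHcard := Core.card_eq_index_of_isComplement' hH
  haveI hsolQ : Group.IsSolvable (Q : Subgroup G) := by
    haveI := Q.2.isNilpotent
    infer_instance
  -- every noncentral element is conjugate into the centraliser of `H`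
  have key : ∀ x ∈ (Q : Subgroup G), (∀ u ∈ (Q : Subgroup G), u * x = x * u) ∨
      ∃ n ∈ (Q : Subgroup G), ∀ h ∈ H, h * (n⁻¹ * x * n) = n⁻¹ * x * n * h := by
    intro x hx
    refine or_iff_not_imp_left.2 fun hxc => ?_
    obtain ⟨r, a, hr, ha⟩ := hB x (q_element_of_mem hx)
    set C := Subgroup.centralizer ({x} : Set G) with hC
    have hrq : r = q := by
      by_contra hrq
      obtain ⟨S, hS⟩ := exists_sylow_le (q := q) (H := C)
        (ha ▸ fun h => hrq ((Nat.prime_dvd_prime_iff_eq hq.out hr).1 (hq.out.dvd_of_dvd_pow h)).symm)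
      haveI := Sylow.unique_of_normal Q hQ
      rw [Subsingleton.elim S Q] at hS
      exact hxc fun u hu => Subgroup.mem_centralizer_singleton_iff.1 (hS hu)
    subst hrq
    have hcopC : C.index.Coprime (Q : Subgroup G).index :=
      ha ▸ ((hq.out.coprime_iff_not_dvd).2 Q.not_dvd_index).pow_left a
    have hrel : ((Q : Subgroup G).subgroupOf C).index = (Q : Subgroup G).index := by
      refine Nat.dvd_antisymm (Subgroup.relIndex_dvd_index_of_normal _ _) ?_
      have e : (Q : Subgroup G).relIndex C * C.index = ((Q : Subgroup G) ⊓ C).index := by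
        rw [← Subgroup.inf_relIndex_right, Subgroup.relIndex_mul_index inf_le_right]
      exact hcopC.symm.dvd_of_dvd_mul_right (e ▸ Subgroup.index_dvd_of_le inf_le_left)
    obtain ⟨K, hK⟩ := Subgroup.exists_right_complement'_of_coprime
      (N := (Q : Subgroup G).subgroupOf C) (by
        rw [hrel]
        refine hcop.coprime_dvd_left ?_
        exact Subgroup.card_comap_dvd_of_injective _ _ C.subtype_injective)
    have hKcard : Nat.card (K.map C.subtype) = (Q : Subgroup G).index := by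
      rw [Subgroup.card_map_of_injective C.subtype_injective, Core.card_eq_index_of_isComplement' hK,
        hrel]
    obtain ⟨n, hn, hnK⟩ := Core.exists_conj_eq_of_coprime hcop (Or.inl hsolQ) hHcard hKcard
    refine ⟨n, hn, fun h hh => ?_⟩
    have h1 : n * h * n⁻¹ ∈ C := by
      have : n * h * n⁻¹ ∈ MulAut.conj n • H := ⟨h, hh, by simp⟩
      rw [hnK] at this
      exact map_subtype_le K this
    rw [hC, Subgroup.mem_centralizer_singleton_iff] at h1
    calc h * (n⁻¹ * x * n) = n⁻¹ * (n * h * n⁻¹ * x) * n := by group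
      _ = n⁻¹ * x * n * h := by rw [h1]; group
  -- hence `H` centralises `Q`
  haveI := Q.2.isNilpotent
  set C0 : Subgroup (Q : Subgroup G) :=
    (Subgroup.centralizer (H : Set G)).subgroupOf (Q : Subgroup G) with hC0
  have hC0top : C0 = ⊤ := by
    by_contra hC0ne
    have hZne : Subgroup.center (Q : Subgroup G) ≠ ⊤ := fun h => hnc fun x hx z hz =>
      congrArg Subtype.val (Subgroup.mem_center_iff.1 (h ▸ Subgroup.mem_top (⟨z, hz⟩ : (Q : Subgroup G)))
        ⟨x, hx⟩)
    obtain ⟨M, hM, hC0M⟩ := (eq_top_or_exists_le_coatom C0).resolve_left hC0ne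
    obtain ⟨N, hN, hZN⟩ := (eq_top_or_exists_le_coatom (Subgroup.center (Q : Subgroup G))).resolve_left hZne
    haveI : M.Normal := Subgroup.NormalizerCondition.normal_of_coatom M Group.normalizerCondition_of_isNilpotent hM
    have hall : ∀ u : (Q : Subgroup G), u ∈ M ∨ u ∈ N := by
      intro u
      rcases key u u.2 with h | ⟨n, hn, h⟩
      · exact Or.inr (hZN (Subgroup.mem_center_iff.2 fun v => Subtype.ext (h v v.2)))
      · refine Or.inl ?_
        have hmem : (⟨n, hn⟩⁻¹ * u * ⟨n, hn⟩ : (Q : Subgroup G)) ∈ C0 :=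
          Subgroup.mem_subgroupOf.2 (Subgroup.mem_centralizer_iff.2 h)
        have := Subgroup.Normal.conj_mem ‹M.Normal› _ (hC0M hmem) ⟨n, hn⟩
        simpa [mul_assoc] using this
    obtain ⟨u, huM⟩ : ∃ u, u ∉ M := by
      by_contra! h
      exact hM.1 (eq_top_iff.2 fun u _ => h u)
    obtain ⟨v, hvN⟩ : ∃ v, v ∉ N := by
      by_contra! h
      exact hN.1 (eq_top_iff.2 fun u _ => h u)
    have huN := (hall u).resolve_left huM
    have hvM := (hall v).resolve_right hvN
    rcases hall (u * v) with h | h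
    · exact huM (by simpa using mul_mem h (inv_mem hvM))
    · exact hvN (by simpa using mul_mem (inv_mem huN) h)
  have hcent : ∀ h ∈ H, ∀ x ∈ (Q : Subgroup G), h * x = x * h := fun h hh x hx =>
    Subgroup.mem_centralizer_iff.1 (Subgroup.mem_subgroupOf.1
      (hC0top ▸ Subgroup.mem_top (⟨x, hx⟩ : (Q : Subgroup G)) : (⟨x, hx⟩ : (Q : Subgroup G)) ∈ C0)) h hh
  refine ⟨H, ⟨fun h hh g => ?_⟩, hH.symm, hcent⟩
  obtain ⟨⟨⟨x, hx⟩, ⟨k, hk⟩⟩, rfl⟩ := hH.surjective g
  show x * k * h * (x * k)⁻¹ ∈ H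
  have hm : k * h * k⁻¹ ∈ H := mul_mem (mul_mem hk hh) (inv_mem hk)
  rw [show x * k * h * (x * k)⁻¹ = x * (k * h * k⁻¹) * x⁻¹ by group, ← hcent _ hm x hx,
    mul_inv_cancel_right]
  exact hm

/-- With an abelian Sylow subgroup all classes are of size prime to `q`. -/
theorem index_coprime (hab : ∀ x ∈ (Q : Subgroup G), ∀ z ∈ (Q : Subgroup G), x * z = z * x) {x : G}
    (hx : ∃ k, orderOf x = q ^ k) : ¬ q ∣ (Subgroup.centralizer ({x} : Set G)).index := by
  obtain ⟨g, hg⟩ := exists_conj_mem Q hx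
  rw [← index_centralizer_conj g x]
  exact fun h => Q.not_dvd_index (h.trans (index_dvd_of_le fun u hu =>
    Subgroup.mem_centralizer_singleton_iff.2 (hab u hu _ hg)))

/-- Two primes cannot occur. -/
theorem false_of_two (hab : ∀ x ∈ (Q : Subgroup G), ∀ z ∈ (Q : Subgroup G), x * z = z * x)
    {z w : G} (hz : z ∈ (Q : Subgroup G)) (hw : w ∈ (Q : Subgroup G)) {s t u i j k : ℕ}
    [hs : Fact s.Prime] [ht : Fact t.Prime] (hu : u.Prime) (hst : s ≠ t) (hut : u ≠ t)
    (hzi : (Subgroup.centralizer ({z} : Set G)).index = s ^ i)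
    (hwj : (Subgroup.centralizer ({w} : Set G)).index = t ^ j)
    (hzw : (Subgroup.centralizer ({z * w} : Set G)).index = u ^ k)
    (hwc : w ∉ Subgroup.center G) : False := by
  set A := Subgroup.centralizer ({z} : Set G) with hA
  set B := Subgroup.centralizer ({w} : Set G) with hBdef
  set K := Subgroup.centralizer ({z * w} : Set G) with hK
  have hKB := fun g => exists_mul_eq (H := K) (K := B)
    (by rw [hzw, hwj]; exact Nat.Coprime.pow k j ((Nat.coprime_primes hu ht.out).2 hut)) g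
  have hBA := fun g => exists_mul_eq (H := B) (K := A)
    (by rw [hwj, hzi]; exact Nat.Coprime.pow j i ((Nat.coprime_primes ht.out hs.out).2 hst.symm)) g
  set O := Cfsg.pCore q G with hO
  have hzwc : z * w = w * z := hab z hz w hw
  -- `[G, w]` lies in `O_q(G)`
  have hcomw : ∀ g : G, g * w * g⁻¹ * w⁻¹ ∈ O := by
    intro g
    obtain ⟨k0, hk0, b, hb, rfl⟩ := hKB g
    have hb' := Subgroup.mem_centralizer_singleton_iff.1 hb
    have hk' := Subgroup.mem_centralizer_singleton_iff.1 hk0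
    have e1 : k0 * b * w * (k0 * b)⁻¹ = k0 * w * k0⁻¹ := by
      rw [mul_assoc k0 b, hb']; group
    have e2 : k0 * w * k0⁻¹ * w⁻¹ = (k0 * z * k0⁻¹)⁻¹ * z := by
      have h1 : k0 * w * k0⁻¹ = (k0 * z * k0⁻¹)⁻¹ * (z * w) := by
        rw [eq_inv_mul_iff_mul_eq]
        calc k0 * z * k0⁻¹ * (k0 * w * k0⁻¹) = k0 * (z * w) * k0⁻¹ := by group
          _ = z * w := by rw [hk', mul_inv_cancel_right]
      rw [h1]; group
    rw [e1]
    refine L_inf_le hst ⟨?_, ?_⟩
    · rw [e2]
      have hzL := mem_L (p := s) (q_element_of_mem hz) ⟨i, hzi⟩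
      exact (L q s G).mul_mem ((L q s G).inv_mem ((inferInstance : (L q s G).Normal).conj_mem z hzL k0)) hzL
    · have hwL := mem_L (p := t) (q_element_of_mem hw) ⟨j, hwj⟩
      exact (L q t G).mul_mem ((inferInstance : (L q t G).Normal).conj_mem w hwL k0) ((L q t G).inv_mem hwL)
  set f := QuotientGroup.mk' O with hf
  have hwO : w ∈ O := by
    have hn : (Subgroup.zpowers (f w)).Normal := by
      refine ⟨fun x hx u => ?_⟩
      obtain ⟨u, rfl⟩ := QuotientGroup.mk'_surjective O u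
      obtain ⟨l, rfl⟩ := Subgroup.mem_zpowers_iff.1 hx
      have e : f u * f w * (f u)⁻¹ = f w := by
        rw [← map_inv, ← map_mul, ← map_mul, ← mul_inv_eq_one, ← map_inv, ← map_mul]
        exact (QuotientGroup.eq_one_iff _).2 (hcomw u)
      rw [← conj_zpow, e]
      exact Subgroup.zpow_mem _ (Subgroup.mem_zpowers _) l
    have hp : IsPGroup q (Subgroup.zpowers (f w)) := by
      rw [show Subgroup.zpowers (f w) = (Subgroup.zpowers w).map f from (MonoidHom.map_zpowers f w).symm]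
      exact (Q.2.to_le (Subgroup.zpowers_le.2 hw)).map f
    have := Core.le_pCore hn hp (Subgroup.mem_zpowers (f w))
    rw [Core.pCore_quotient_pCore, Subgroup.mem_bot] at this
    exact (QuotientGroup.eq_one_iff w).1 this
  -- the group acting on `⟨O_q(G), z⟩`
  set G1 := (Subgroup.centralizer ({f z} : Set (G ⧸ O))).comap f with hG1
  set Z1 := O ⊔ Subgroup.zpowers z with hZ1
  have hOQ : O ≤ (Q : Subgroup G) := Core.pCore_le_sylow Q
  have hZ1Q : Z1 ≤ (Q : Subgroup G) := sup_le hOQ (Subgroup.zpowers_le.2 hz)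
  have hmemG1 : ∀ g : G, g ∈ G1 ↔ g * z * g⁻¹ * z⁻¹ ∈ O := by
    intro g
    rw [hG1, Subgroup.mem_comap, Subgroup.mem_centralizer_singleton_iff, ← QuotientGroup.eq_one_iff,
      ← QuotientGroup.mk'_apply, ← hf, map_mul, map_mul, map_mul, map_inv, map_inv, mul_inv_eq_one,
      mul_inv_eq_iff_eq_mul]
  have hAG1 : A ≤ G1 := fun g hg => by
    rw [hmemG1, Subgroup.mem_centralizer_singleton_iff.1 hg]; simp
  have hKG1 : K ≤ G1 := fun g hg => by
    rw [hmemG1]
    have h1 : g * z * g⁻¹ = z * w * (g * w * g⁻¹)⁻¹ := by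
      rw [eq_mul_inv_iff_mul_eq]
      calc g * z * g⁻¹ * (g * w * g⁻¹) = g * (z * w) * g⁻¹ := by group
        _ = z * w := by rw [Subgroup.mem_centralizer_singleton_iff.1 hg, mul_inv_cancel_right]
    rw [h1, show z * w * (g * w * g⁻¹)⁻¹ * z⁻¹ = z * (g * w * g⁻¹ * w⁻¹)⁻¹ * z⁻¹ by group]
    exact (inferInstance : O.Normal).conj_mem _ (inv_mem (hcomw g)) z
  have hnorm : G1 ≤ Subgroup.normalizer (Z1 : Set G) := by
    intro g hg
    have hle : Z1.map (MulAut.conj g).toMonoidHom ≤ Z1 := by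
      rw [hZ1, Subgroup.map_sup]
      refine sup_le ?_ ?_
      · exact le_trans (Coprime.map_conj_le_iff.2 fun x hx => (inferInstance : O.Normal).conj_mem x hx g)
          le_sup_left
      · rw [MonoidHom.map_zpowers, Subgroup.zpowers_le]
        have := mul_mem (Subgroup.mem_sup_left (T := Subgroup.zpowers z) ((hmemG1 g).1 hg))
          (Subgroup.mem_sup_right (S := O) (Subgroup.mem_zpowers z))
        simpa [mul_assoc] using this
    rw [Subgroup.mem_normalizer_iff_map_conj_eq]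
    exact Subgroup.eq_of_le_of_card_ge hle (le_of_eq (Subgroup.card_map_of_injective (MulAut.conj g).injective).symm)
  letI : CommGroup Z1 :=
    { (inferInstance : Group Z1) with
      mul_comm := fun x y => Subtype.ext (hab x (hZ1Q x.2) y (hZ1Q y.2)) }
  let φ : G1 →* MulAut Z1 := (Z1.normalizerMonoidHom).comp (Subgroup.inclusion hnorm)
  have hφ : ∀ (g : G1) (x : Z1), ((φ g x : Z1) : G) = (g : G) * x * (g : G)⁻¹ := fun g x => rfl
  have hQG1 : (Q : Subgroup G) ≤ G1 := fun g hg => hAG1 (Subgroup.mem_centralizer_singleton_iff.2 (hab g hg z hz))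
  have hker : (Q : Subgroup G).subgroupOf G1 ≤ φ.ker := fun g hg => MulEquiv.ext fun x => Subtype.ext (by
    rw [hφ, hab (g : G) hg x (hZ1Q x.2), mul_inv_cancel_right]; rfl)
  have hcop : (Nat.card φ.range).Coprime (Nat.card Z1) := by
    obtain ⟨n, hn⟩ := IsPGroup.iff_card.1 (Q.2.to_le hZ1Q)
    rw [hn]
    refine Nat.Coprime.pow_right n ((hq.out.coprime_iff_not_dvd).2 fun h => Q.not_dvd_index ?_).symm
    rw [← Subgroup.index_ker] at h
    exact h.trans ((Subgroup.index_dvd_of_le hker).trans (Subgroup.relIndex_dvd_index_of_le hQG1 |>.trans dvd_rfl))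
  have hwZ : w ∈ Z1 := Subgroup.mem_sup_left hwO
  have hzZ : z ∈ Z1 := Subgroup.mem_sup_right (Subgroup.mem_zpowers z)
  have havg := average (Γ := φ.range) hcop
    (((A.subgroupOf G1).map φ).subgroupOf φ.range) (((B.subgroupOf G1).map φ).subgroupOf φ.range)
    (((K.subgroupOf G1).map φ).subgroupOf φ.range) ⟨z, hzZ⟩ ⟨w, hwZ⟩
    (by
      rintro ⟨a, ha0⟩ ha
      obtain ⟨g, hg, hga⟩ := Subgroup.mem_subgroupOf.1 ha
      change a ⟨z, hzZ⟩ = ⟨z, hzZ⟩
      change φ g = a at hga
      subst hga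
      exact Subtype.ext (by
        rw [hφ]
        show (g : G) * z * (g : G)⁻¹ = z
        rw [show (g : G) * z = z * g from Subgroup.mem_centralizer_singleton_iff.1 hg, mul_inv_cancel_right]))
    (by
      rintro ⟨a, ha0⟩ ha
      obtain ⟨g, hg, hga⟩ := Subgroup.mem_subgroupOf.1 ha
      change a ⟨w, hwZ⟩ = ⟨w, hwZ⟩
      change φ g = a at hga
      subst hga
      exact Subtype.ext (by
        rw [hφ]
        show (g : G) * w * (g : G)⁻¹ = w
        rw [show (g : G) * w = w * g from Subgroup.mem_centralizer_singleton_iff.1 hg, mul_inv_cancel_right]))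
    (by
      rintro ⟨a, ha0⟩ ha
      obtain ⟨g, hg, hga⟩ := Subgroup.mem_subgroupOf.1 ha
      change a (⟨z, hzZ⟩ * ⟨w, hwZ⟩) = ⟨z, hzZ⟩ * ⟨w, hwZ⟩
      change φ g = a at hga
      subst hga
      exact Subtype.ext (by
        rw [hφ]
        show (g : G) * (z * w) * (g : G)⁻¹ = z * w
        rw [show (g : G) * (z * w) = z * w * g from Subgroup.mem_centralizer_singleton_iff.1 hg,
          mul_inv_cancel_right]))
    (by
      rintro ⟨_, g, rfl⟩
      obtain ⟨b, hb, a, ha, hba⟩ := hBA g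
      have hbG : b ∈ G1 := by
        rw [show b = (g : G) * a⁻¹ by rw [hba]; group]
        exact mul_mem g.2 (inv_mem (hAG1 ha))
      exact ⟨⟨φ ⟨b, hbG⟩, _, rfl⟩, ⟨⟨b, hbG⟩, hb, rfl⟩, ⟨φ ⟨a, hAG1 ha⟩, _, rfl⟩, ⟨⟨a, hAG1 ha⟩, ha, rfl⟩,
        Subtype.ext (by
          show φ g = φ ⟨b, hbG⟩ * φ ⟨a, hAG1 ha⟩
          rw [← map_mul]; exact congrArg φ (Subtype.ext hba))⟩)
    (by
      rintro ⟨_, g, rfl⟩
      obtain ⟨k0, hk0, b, hb, hkb⟩ := hKB g
      have hbG : b ∈ G1 := by
        rw [show b = k0⁻¹ * (g : G) by rw [hkb]; group]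
        exact mul_mem (inv_mem (hKG1 hk0)) g.2
      exact ⟨⟨φ ⟨k0, hKG1 hk0⟩, _, rfl⟩, ⟨⟨k0, hKG1 hk0⟩, hk0, rfl⟩, ⟨φ ⟨b, hbG⟩, _, rfl⟩, ⟨⟨b, hbG⟩, hb, rfl⟩,
        Subtype.ext (by
          show φ g = φ ⟨k0, hKG1 hk0⟩ * φ ⟨b, hbG⟩
          rw [← map_mul]; exact congrArg φ (Subtype.ext hkb))⟩)
  refine hwc (Subgroup.mem_center_iff.2 fun g => ?_)
  obtain ⟨b, hb, a, ha, rfl⟩ := hBA g
  have h1 : a * w * a⁻¹ = w := congrArg Subtype.val (havg ⟨φ ⟨a, hAG1 ha⟩, _, rfl⟩)
  rw [mul_inv_eq_iff_eq_mul] at h1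
  rw [mul_assoc, h1, ← mul_assoc, Subgroup.mem_centralizer_singleton_iff.1 hb, mul_assoc]

/-- One prime serves for all elements of `q`-power order. -/
theorem exists_prime (hB : Hyp q G)
    (hab : ∀ x ∈ (Q : Subgroup G), ∀ z ∈ (Q : Subgroup G), x * z = z * x)
    {z₀ : G} (hz₀ : z₀ ∈ (Q : Subgroup G)) (hz₀c : z₀ ∉ Subgroup.center G) :
    ∃ p : ℕ, p.Prime ∧ p ≠ q ∧ ∀ x : G, (∃ k, orderOf x = q ^ k) → PPow p x := by
  have hcen : ∀ {y : G}, y ∈ Subgroup.center G → ∀ p : ℕ, PPow p y := fun {y} hy p =>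
    ⟨0, by rw [pow_zero, Subgroup.index_eq_one, eq_top_iff]
           exact fun g _ => Subgroup.mem_centralizer_singleton_iff.2 (Subgroup.mem_center_iff.1 hy g)⟩
  have hpos : ∀ {y : G}, y ∉ Subgroup.center G → ∀ {r a : ℕ},
      (Subgroup.centralizer ({y} : Set G)).index = r ^ a → a ≠ 0 := by
    intro y hy r a h ha
    rw [ha, pow_zero, Subgroup.index_eq_one] at h
    exact hy (Subgroup.mem_center_iff.2 fun g =>
      Subgroup.mem_centralizer_singleton_iff.1 (h ▸ Subgroup.mem_top g))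
  obtain ⟨s, i, hs, hi⟩ := hB z₀ (q_element_of_mem hz₀)
  haveI := Fact.mk hs
  refine ⟨s, hs, fun e => index_coprime Q hab (q_element_of_mem hz₀)
    (hi ▸ e ▸ dvd_pow_self s (hpos hz₀c hi)), fun x hx => ?_⟩
  obtain ⟨g, hg⟩ := exists_conj_mem Q hx
  suffices h : PPow s (g * x * g⁻¹) by
    obtain ⟨a, ha⟩ := h
    exact ⟨a, by rw [← index_centralizer_conj g x]; exact ha⟩
  set w := g * x * g⁻¹
  by_cases hwc : w ∈ Subgroup.center G
  · exact hcen hwc s
  obtain ⟨t, j, ht, hj⟩ := hB w (q_element_of_mem hg)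
  haveI := Fact.mk ht
  by_cases hst : s = t
  · exact ⟨j, hst ▸ hj⟩
  obtain ⟨u, k, hu, hk⟩ := hB (z₀ * w) (q_element_of_mem (mul_mem hz₀ hg))
  exfalso
  by_cases hut : u = t
  · exact false_of_two Q hab hg hz₀ (s := t) (t := s) hu (Ne.symm hst) (hut ▸ Ne.symm hst) hj hi
      (by rw [← hab z₀ hz₀ w hg]; exact hk) hz₀c
  · exact false_of_two Q hab hz₀ hg (s := s) (t := t) hu hst hut hi hj hk hwc

end Cfsg.Agent.FGS3.BaerPrime
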