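import Cfsg.Agent.FGS3.BaerPrime.OrbitTwo
import Cfsg.Agent.FGS3.BaerPrime.PrimePowerCyclic
import Cfsg.Agent.PermGroups.PrimeDegree
import Cfsg.Agent.Chars.GlaubermanSolvable
import Cfsg.Agent.Transfer.Burnside
import Cfsg.Agent.S0126

/-!
A coprime linear group all of whose orbits have sizes powers of one prime is solvable.
-/

set_option autoImplicit false
set_option linter.unusedSectionVars false
set_option linter.style.haveILetI false

namespace Cfsg.Agent.FGS3.BaerPrime

open MulAction

universe u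

section Basic

variable {V : Type u} [CommGroup V] [Finite V] {p : ℕ} [hp : Fact p.Prime]

/-- A Sylow subgroup has the same orbits. -/
theorem sylow_orbits {X : Subgroup (MulAut V)} (hX : OrbP p X) (P : Sylow p X) :
    ∀ x ∈ X, ∀ v : V, ∃ π ∈ (P : Subgroup X).map X.subtype, x v = π v := by
  intro x hx v
  obtain ⟨a, ha⟩ := hX v
  obtain ⟨π, hπ, s, hs, e⟩ := exists_mul_eq (H := (P : Subgroup X))
    (K := (stabilizer (MulAut V) v).subgroupOf X) (by
      rw [show ((stabilizer (MulAut V) v).subgroupOf X).index = p ^ a from ha]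
      exact ((hp.out.coprime_iff_not_dvd).2 P.not_dvd_index).symm.pow_right a) (⟨x, hx⟩ : X)
  refine ⟨(π : MulAut V), ⟨π, hπ, rfl⟩, ?_⟩
  have h1 : x = (π : MulAut V) * (s : MulAut V) := congrArg Subtype.val e
  have h2 : (s : MulAut V) v = v := Subgroup.mem_subgroupOf.1 hs
  rw [h1]
  show (π : MulAut V) ((s : MulAut V) v) = _
  rw [h2]

/-- An orbit condition with order prime to `p` gives the trivial group. -/
theorem eq_bot_of_coprime {N : Subgroup (MulAut V)} (hN : OrbP p N) (h : ¬ p ∣ Nat.card N) :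
    N = ⊥ := by
  refine eq_bot_iff.2 fun x hx => Subgroup.mem_bot.2 (MulEquiv.ext fun v => ?_)
  obtain ⟨a, ha⟩ := hN v
  rcases a with _ | a
  · exact (Subgroup.relIndex_eq_one.1 (by rwa [pow_zero] at ha)) hx
  · exact absurd ((dvd_pow_self p a.succ_ne_zero).trans (ha ▸ Subgroup.relIndex_dvd_card _ _)) h

/-- The action on an invariant quotient. -/
def restrictQuot (Y : Subgroup (MulAut V)) (U : Subgroup V) (h : ∀ y ∈ Y, ∀ u ∈ U, y u ∈ U) :
    Y →* MulAut (V ⧸ U) where
  toFun y := QuotientGroup.congr U U (y : MulAut V) (le_antisymm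
    (by rintro _ ⟨u, hu, rfl⟩; exact h y y.2 u hu)
    (fun u hu => ⟨(y : MulAut V)⁻¹ u, h _ (Y.inv_mem y.2) u hu, MulAut.apply_inv_self V _ u⟩))
  map_one' := MulEquiv.ext fun x => by induction x using QuotientGroup.induction_on; rfl
  map_mul' _ _ := MulEquiv.ext fun x => by induction x using QuotientGroup.induction_on; rfl

theorem restrictQuot_apply {Y : Subgroup (MulAut V)} {U : Subgroup V}
    {h : ∀ y ∈ Y, ∀ u ∈ U, y u ∈ U} (y : Y) (v : V) :
    restrictQuot Y U h y (v : V ⧸ U) = (((y : MulAut V) v : V) : V ⧸ U) := rfl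

end Basic

section Cyclic

variable {V : Type u} [CommGroup V] [Finite V] {p : ℕ} [hp : Fact p.Prime]

theorem no_swap {X Ω : Type*} [Group X] [Finite X] [MulAction X Ω] (hodd : ¬ 2 ∣ Nat.card X) {x : X}
    {a b : Ω} (hab : a ≠ b) (h1 : x • a = b) (h2 : x • b = a) : False := by
  obtain ⟨t, ht⟩ : Odd (orderOf x) :=
    Nat.odd_iff.2 (Nat.two_dvd_ne_zero.1 fun h => hodd (h.trans (orderOf_dvd_natCard x)))
  have h3 : ∀ n : ℕ, (x ^ (2 * n)) • a = a := by
    intro n
    induction n with
    | zero => simp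
    | succ n ih => rw [Nat.mul_succ, pow_add, mul_smul, pow_two, mul_smul, h1, h2, ih]
  have h4 := h3 (t + 1)
  rw [show 2 * (t + 1) = orderOf x + 1 by omega, pow_succ, pow_orderOf_eq_one, one_mul, h1] at h4
  exact hab h4.symm

/-- The case of a cyclic Sylow subgroup, `p` odd. -/
theorem solvable_cyclic (hp2 : p ≠ 2) {X : Subgroup (MulAut V)} (hX : OrbP p X)
    (hinv : ∀ v : V, v ^ 2 = 1 → v = 1 ∨ ¬ 2 ∣ Nat.card X) (P : Sylow p X)
    (hcyc : IsCyclic (P : Subgroup X))
    (IH : ∀ N : Subgroup X, N.Normal → N ≠ ⊤ → Group.IsSolvable N) : Group.IsSolvable X := by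
  classical
  haveI := hcyc
  by_cases hsimple : ∀ N : Subgroup X, N.Normal → N = ⊥ ∨ N = ⊤
  swap
  · push Not at hsimple
    obtain ⟨N, hNn, hNb, hNt⟩ := hsimple
    haveI := hNn
    haveI : Nontrivial N := (Subgroup.nontrivial_iff_ne_bot N).2 hNb
    obtain ⟨T, r, hr, hTn, hTr, hrT⟩ := Chars.exists_normal_pgroup (IH N hNn hNt)
    haveI := Fact.mk hr
    -- an invariant normal `r`-subgroup
    set R := (Cfsg.pCore r N).map N.subtype with hR
    haveI hRn : R.Normal := by
      haveI : (Cfsg.pCore r N).Characteristic := Core.pCore_characteristic r N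
      exact inferInstance
    have hRp : IsPGroup r R := (Core.isPGroup_pCore r N).map _
    have hRb : R ≠ ⊥ := by
      rw [hR, Ne, Subgroup.map_eq_bot_iff_of_injective _ N.subtype_injective]
      intro hb
      have hle : T ≤ Cfsg.pCore r N := fun t ht => Core.le_pCore hTn hTr ht
      rw [hb, le_bot_iff] at hle
      rw [hle, Subgroup.card_bot] at hrT
      exact hr.not_dvd_one hrT
    by_cases hrp : r = p
    swap
    · refine absurd ?_ hRb
      have h := eq_bot_of_coprime (orbP_normal hp.out hX R) (fun h => by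
        rw [Subgroup.card_map_of_injective X.subtype_injective] at h
        obtain ⟨k, hk⟩ := IsPGroup.iff_card.1 hRp
        exact hrp ((Nat.prime_dvd_prime_iff_eq hp.out hr).1 (hp.out.dvd_of_dvd_pow (hk ▸ h))).symm)
      exact (Subgroup.map_eq_bot_iff_of_injective _ X.subtype_injective).1 h
    subst r
    have hRP : R ≤ (P : Subgroup X) := fun x hx => Core.pCore_le_sylow P (Core.le_pCore hRn hRp hx)
    haveI : IsCyclic R := isCyclic_of_injective (Subgroup.inclusion hRP) (Subgroup.inclusion_injective hRP)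
    let f : X →* (ZMod (Nat.card R))ˣ :=
      (IsCyclic.mulAutMulEquiv R).toMonoidHom.comp (MulAut.conjNormal (H := R))
    have hker : f.ker ≤ Subgroup.centralizer (R : Set X) := by
      intro g hg
      have hg' : MulAut.conjNormal g = (1 : MulAut R) :=
        (IsCyclic.mulAutMulEquiv R).injective ((MonoidHom.mem_ker.1 hg).trans (map_one _).symm)
      refine Subgroup.mem_centralizer_iff.2 fun u hu => ?_
      have := congrArg Subtype.val (DFunLike.congr_fun hg' (⟨u, hu⟩ : R))
      rw [MulAut.conjNormal_apply] at this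
      exact (mul_inv_eq_iff_eq_mul.1 this).symm
    by_cases hC : Subgroup.centralizer (R : Set X) = ⊤
    swap
    · haveI := IH _ inferInstance hC
      exact isSolvable_of_normal_quotient _ f hker
    obtain ⟨x, hx⟩ := IsCyclic.exists_monoid_generator (α := (P : Subgroup X))
    obtain ⟨z, hzR, hz1⟩ := (Subgroup.bot_or_exists_ne_one R).resolve_left hRb
    obtain ⟨b, hb⟩ := IsPGroup.iff_orderOf.1 P.2 x
    rw [← Subgroup.orderOf_coe] at hb
    have hord : ∀ i j : ℤ, (x : X) ^ i = (x : X) ^ j ↔ (p : ℤ) ^ b ∣ i - j := fun i j => by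
      rw [← orderOf_dvd_sub_iff_zpow_eq_zpow, hb, Nat.cast_pow]
    have hpow : ∀ u ∈ (P : Subgroup X), ∃ i : ℕ, (x : X) ^ i = u := fun u hu => by
      obtain ⟨i, hi⟩ := hx ⟨u, hu⟩
      exact ⟨i, by simpa using congrArg Subtype.val hi⟩
    have hN : Subgroup.normalizer ((P : Subgroup X) : Set X) ≤
        Subgroup.centralizer ((P : Subgroup X) : Set X) := by
      intro g hg
      obtain ⟨k, hk⟩ := hpow _ ((Subgroup.mem_normalizer_iff.1 hg (x : X)).1 x.2)
      obtain ⟨i, hi⟩ := hpow z (hRP hzR)
      have hgz : g * z * g⁻¹ = z := by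
        rw [(Subgroup.mem_centralizer_iff.1 (hC ▸ Subgroup.mem_top g) z hzR).symm, mul_inv_cancel_right]
      have hk1 : (p : ℤ) ∣ (k : ℤ) - 1 := by
        by_contra hno
        refine hz1 ?_
        have h1 : (p : ℤ) ^ b ∣ ((k : ℤ) - 1) * (i : ℤ) := by
          rw [sub_mul, one_mul, ← hord, zpow_mul, zpow_natCast, zpow_natCast, zpow_natCast, hk, conj_pow, hi,
            hgz]
        have h2 : (p : ℤ) ^ b ∣ (i : ℤ) - 0 := by
          rw [sub_zero]
          exact ((Nat.prime_iff_prime_int.1 hp.out).coprime_iff_not_dvd.2 hno).pow_left.dvd_of_dvd_mul_left h1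
        rw [← hord, zpow_natCast, zpow_zero, hi] at h2
        exact h2
      have hpw : ∀ n : ℕ, g ^ n * (x : X) * (g ^ n)⁻¹ = (x : X) ^ (k ^ n) := by
        intro n
        induction n with
        | zero => simp
        | succ n ih =>
          rw [pow_succ, mul_inv_rev, show g ^ n * g * (x : X) * (g⁻¹ * (g ^ n)⁻¹) =
            g ^ n * (g * (x : X) * g⁻¹) * (g ^ n)⁻¹ by group, ← hk, ← conj_pow, ih, ← pow_mul, ← pow_succ]
      have hg1 : Commute (g ^ p ^ b) (x : X) := by
        have h1 := dvd_sub_pow_of_dvd_sub hk1 b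
        rw [one_pow] at h1
        have h2 : (x : X) ^ (((k ^ p ^ b : ℕ) : ℤ)) = (x : X) ^ (1 : ℤ) := by
          rw [hord, Nat.cast_pow]
          exact (pow_dvd_pow _ b.le_succ).trans h1
        rw [zpow_natCast, zpow_one] at h2
        exact mul_inv_eq_iff_eq_mul.1 ((hpw _).trans h2)
      obtain ⟨e, m, hm, hem⟩ := Nat.exists_eq_pow_mul_and_not_dvd (orderOf_pos g).ne' p hp.out.ne_one
      have hg2 : Commute (g ^ m) (x : X) := by
        have hgm : g ^ m ∈ (P : Subgroup X) := by
          have hpy : IsPGroup p (Subgroup.zpowers (g ^ m)) := by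
            rintro ⟨y, j, rfl⟩
            refine ⟨e, Subtype.ext ?_⟩
            show ((g ^ m) ^ j) ^ p ^ e = 1
            rw [← zpow_natCast ((g ^ m) ^ j), ← zpow_mul, mul_comm, zpow_mul, zpow_natCast, ← pow_mul,
              mul_comm m, ← hem, pow_orderOf_eq_one, one_zpow]
          have hsup := hpy.to_sup_of_normal_right' P.2 (Subgroup.zpowers_le.2 (Subgroup.pow_mem _ hg m))
          exact P.is_maximal' hsup le_sup_right ▸ Subgroup.mem_sup_left (Subgroup.mem_zpowers _)
        obtain ⟨j, hj⟩ := hpow _ hgm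
        rw [← hj]
        exact Commute.pow_self _ j
      have hgx : Commute g (x : X) := by
        obtain ⟨s, t, hst⟩ : IsCoprime ((p ^ b : ℕ) : ℤ) (m : ℤ) :=
          Nat.isCoprime_iff_coprime.2 (((hp.out.coprime_iff_not_dvd).2 hm).pow_left b)
        have : g = (g ^ p ^ b) ^ s * (g ^ m) ^ t := by
          rw [← zpow_natCast, ← zpow_natCast g m, ← zpow_mul, ← zpow_mul, ← zpow_add,
            mul_comm _ s, mul_comm _ t, hst, zpow_one]
        rw [this]
        exact (hg1.zpow_left s).mul_left (hg2.zpow_left t)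
      refine Subgroup.mem_centralizer_iff.2 fun u hu => ?_
      obtain ⟨j, rfl⟩ := hpow u hu
      exact (hgx.pow_right j).eq.symm
    obtain ⟨P', K, hKn, hK⟩ := Transfer.hasNormalPComplement_of_normalizer_le_centralizer P hN
    haveI := hKn
    have hKb : K = ⊥ := by
      have h := eq_bot_of_coprime (orbP_normal hp.out hX K) (by
        rw [Subgroup.card_map_of_injective X.subtype_injective, ← hK.index_eq_card]
        exact P'.not_dvd_index)
      exact (Subgroup.map_eq_bot_iff_of_injective _ X.subtype_injective).1 h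
    have hP' : (P' : Subgroup X) = ⊤ := by
      have := hK.sup_eq_top
      rwa [hKb, bot_sup_eq] at this
    haveI : Group.IsNilpotent X :=
      (show IsPGroup p X from (hP' ▸ P'.2).of_equiv Subgroup.topEquiv).isNilpotent
    infer_instance
  -- no proper normal subgroups
  by_cases hab : ∀ x y : X, x * y = y * x
  · exact Group.isSolvable_of_comm hab
  have hodd : ¬ 2 ∣ Nat.card X := by
    intro h2
    obtain ⟨τ, hτ⟩ := exists_prime_orderOf_dvd_card' 2 h2
    obtain ⟨u, hu⟩ : ∃ u, (τ : MulAut V) u ≠ u := by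
      by_contra! hall
      rw [show τ = 1 from Subtype.ext (MulEquiv.ext hall), orderOf_one] at hτ
      exact absurd hτ (by norm_num)
    set v := u⁻¹ * (τ : MulAut V) u with hv
    have hττ : ∀ w, (τ : MulAut V) ((τ : MulAut V) w) = w := fun w => by
      have h : τ * τ = 1 := by rw [← pow_two, ← hτ, pow_orderOf_eq_one]
      exact DFunLike.congr_fun (congrArg Subtype.val h) w
    have hτv : (τ : MulAut V) v = v⁻¹ := by
      rw [hv, map_mul, map_inv, hττ, mul_inv_rev, inv_inv]
    have hv1 : v ≠ 1 := fun e => hu (inv_mul_eq_one.1 e).symm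
    rcases hinv (v * v⁻¹⁻¹⁻¹) (by rw [inv_inv, mul_inv_cancel, one_pow]) with - | h
    swap
    · exact h h2
    have hvv : v ≠ v⁻¹ := fun e => by
      rcases hinv v (by rw [pow_two]; nth_rw 1 [e]; exact inv_mul_cancel v) with h | h
      · exact hv1 h
      · exact h h2
    -- the setwise stabiliser of `{v, v⁻¹}`
    let S : Subgroup X :=
      { carrier := {y | (y : MulAut V) v = v ∨ (y : MulAut V) v = v⁻¹}
        one_mem' := Or.inl rfl
        mul_mem' := by
          rintro y y' hy (h | h)
          · rcases hy with h' | h'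
            · left; show (y : MulAut V) ((y' : MulAut V) v) = v; rw [h, h']
            · right; show (y : MulAut V) ((y' : MulAut V) v) = v⁻¹; rw [h, h']
          · rcases hy with h' | h'
            · right; show (y : MulAut V) ((y' : MulAut V) v) = v⁻¹; rw [h, map_inv, h']
            · left; show (y : MulAut V) ((y' : MulAut V) v) = v; rw [h, map_inv, h', inv_inv]
        inv_mem' := by
          rintro y (h | h)
          · left
            show (y : MulAut V)⁻¹ v = v
            conv_lhs => rw [← h, MulAut.inv_apply_self]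
          · right
            show (y : MulAut V)⁻¹ v = v⁻¹
            apply (y : MulAut V).injective
            rw [MulAut.apply_inv_self, map_inv, h, inv_inv] }
    set S0 := (stabilizer (MulAut V) v).subgroupOf X with hS0
    have hS0S : S0 ≤ S := fun y hy => Or.inl (Subgroup.mem_subgroupOf.1 hy)
    have h2S : S0.relIndex S = 2 := by
      rw [Subgroup.relIndex, Subgroup.index_eq_two_iff]
      refine ⟨⟨τ, Or.inr hτv⟩, fun ⟨y, hy⟩ => ?_⟩
      show Xor ((y : MulAut V) ((τ : MulAut V) v) = v) ((y : MulAut V) v = v)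
      rw [hτv, map_inv]
      rcases hy with h | h
      · exact Or.inr ⟨h, fun e => hvv (by rw [h] at e; exact e.symm)⟩
      · exact Or.inl ⟨by rw [h, inv_inv], fun e => hvv (e.symm.trans h)⟩
    obtain ⟨a, ha⟩ := hX v
    have h3 : 2 ∣ p ^ a := by
      rw [← ha]
      show 2 ∣ S0.index
      rw [← Subgroup.relIndex_mul_index hS0S, h2S]
      exact dvd_mul_right _ _
    exact hp2 ((Nat.prime_dvd_prime_iff_eq Nat.prime_two hp.out).1 (Nat.prime_two.dvd_of_dvd_pow h3)).symm
  -- a moved vector and a maximal subgroup above its stabiliser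
  obtain ⟨v, hv⟩ : ∃ v, (stabilizer (MulAut V) v).subgroupOf X ≠ ⊤ := by
    by_contra! hall
    refine hab fun x y => ?_
    have h1 : ∀ w : X, w = 1 := fun w => Subtype.ext (MulEquiv.ext fun u =>
      Subgroup.mem_subgroupOf.1 (hall u ▸ Subgroup.mem_top w))
    rw [h1 x, h1 y]
  obtain ⟨H, hH, hSH⟩ := (eq_top_or_exists_le_coatom _).resolve_left hv
  obtain ⟨a, ha⟩ := hX v
  obtain ⟨b, -, hb⟩ := (Nat.dvd_prime_pow hp.out).1
    (show H.index ∣ p ^ a from ha ▸ Subgroup.index_dvd_of_le hSH)
  have hb0 : b ≠ 0 := fun h => hH.1 (Subgroup.index_eq_one.1 (by rw [hb, h, pow_zero]))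
  have hPH : ∀ g : X, ∃ π ∈ (P : Subgroup X), ∃ h ∈ H, g = π * h := exists_mul_eq (by
    rw [hb]
    exact ((hp.out.coprime_iff_not_dvd).2 P.not_dvd_index).symm.pow_right b)
  haveI hPc : IsMulCommutative (P : Subgroup X) := inferInstance
  have hcore : H.normalCore = ⊥ := (hsimple _ inferInstance).resolve_right fun h =>
    hH.1 (top_le_iff.1 (h ▸ H.normalCore_le))
  have hint : ∀ t ∈ (P : Subgroup X), t ∈ H → t = 1 := by
    intro t ht htH
    have : t ∈ H.normalCore := fun g => by
      obtain ⟨π, hπ, h, hh, e⟩ := hPH g⁻¹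
      have hg : g = h⁻¹ * π⁻¹ := by rw [← inv_inv g, e, mul_inv_rev]
      have hc : π⁻¹ * t * π = t := by
        have := congrArg Subtype.val (mul_comm' (⟨π⁻¹, inv_mem hπ⟩ : (P : Subgroup X)) ⟨t, ht⟩)
        change π⁻¹ * t = t * π⁻¹ at this
        rw [this, inv_mul_cancel_right]
      rw [hg, show h⁻¹ * π⁻¹ * t * (h⁻¹ * π⁻¹)⁻¹ = h⁻¹ * (π⁻¹ * t * π) * h by group, hc]
      exact H.mul_mem (H.mul_mem (H.inv_mem hh) htH) hh
    rwa [hcore, Subgroup.mem_bot] at this
  let a₀ : X ⧸ H := ((1 : X) : X ⧸ H)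
  have htr : ∀ x : X ⧸ H, ∃ c : (P : Subgroup X), (c : X) • a₀ = x := by
    intro x
    obtain ⟨g, rfl⟩ := QuotientGroup.mk_surjective x
    obtain ⟨π, hπ, h, hh, rfl⟩ := hPH g
    refine ⟨⟨π, hπ⟩, ?_⟩
    show ((π * 1 : X) : X ⧸ H) = _
    rw [mul_one]
    exact QuotientGroup.eq.2 (by simpa using hh)
  have hfree : ∀ x : X ⧸ H, stabilizer (P : Subgroup X) x = ⊥ := by
    intro x
    obtain ⟨c, rfl⟩ := htr x
    refine eq_bot_iff.2 fun t ht => Subgroup.mem_bot.2 (Subtype.ext (hint t t.2 ?_))
    have h1 : ((t : X) * ((c : X) * 1) : X ⧸ H) = (((c : X) * 1 : X) : X ⧸ H) := ht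
    have h2 := QuotientGroup.eq.1 h1.symm
    have h3 : ((c : X) * 1)⁻¹ * ((t : X) * ((c : X) * 1)) = (t : X) := by
      have := congrArg Subtype.val (mul_comm' t c)
      change (t : X) * (c : X) = (c : X) * t at this
      rw [mul_one, this, inv_mul_cancel_left]
    rwa [h3] at h2
  have hcardP : Nat.card (P : Subgroup X) = p ^ b := by
    rw [← hb, Subgroup.index_eq_card]
    refine Nat.card_congr (Equiv.ofBijective (fun c : (P : Subgroup X) => (c : X) • a₀) ⟨fun c c' e => ?_, htr⟩)
    have h1 : c'⁻¹ * c ∈ stabilizer (P : Subgroup X) a₀ := by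
      show ((c' : X)⁻¹ * (c : X)) • a₀ = a₀
      rw [mul_smul, show (c : X) • a₀ = (c' : X) • a₀ from e, inv_smul_smul]
    rw [hfree, Subgroup.mem_bot, inv_mul_eq_one] at h1
    exact h1.symm
  haveI : Nontrivial (X ⧸ H) := Finite.one_lt_card_iff_nontrivial.1 (by
    rw [← Subgroup.index_eq_card, hb]
    exact Nat.one_lt_pow hb0 hp.out.one_lt)
  have h2tr : IsMultiplyPretransitive X (X ⧸ H) 2 ∨ Group.IsSolvable X := by
    rcases Nat.lt_or_ge b 2 with hb2 | hb2
    · letI := Fintype.ofFinite (X ⧸ H)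
      set φ := MulAction.toPermHom X (X ⧸ H) with hφ
      haveI : IsPretransitive φ.range (X ⧸ H) := ⟨fun x y => by
        obtain ⟨g, rfl⟩ := exists_smul_eq X x y
        exact ⟨⟨φ g, g, rfl⟩, rfl⟩⟩
      rcases PermGroups.prime_degree_solvable_or_two_transitive (p := p) (by
        rw [← Nat.card_eq_fintype_card, ← Subgroup.index_eq_card, hb, show b = 1 by omega, pow_one])
        φ.range with h | h
      · right
        haveI := h
        refine Group.isSolvable_of_isSolvable_injective (f := φ.rangeRestrict) ?_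
        intro g g' e
        have e' : φ g = φ g' := congrArg Subtype.val e
        rw [← mul_inv_eq_one]
        have : g * g'⁻¹ ∈ φ.ker := by rw [MonoidHom.mem_ker, map_mul, map_inv, e', mul_inv_cancel]
        rwa [hφ, ← Subgroup.normalCore_eq_ker, hcore, Subgroup.mem_bot] at this
      · left
        rw [is_two_pretransitive_iff] at h ⊢
        intro a b c d hab hcd
        obtain ⟨⟨_, g, rfl⟩, hg1, hg2⟩ := h hab hcd
        exact ⟨g, hg1, hg2⟩
    · left
      have hprim : IsPreprimitive X (X ⧸ H) := by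
        refine (isCoatom_stabilizer_iff_preprimitive X a₀).1 ?_
        rwa [show stabilizer X a₀ = H from MulAction.stabilizer_quotient H]
      letI := Fintype.ofFinite (X ⧸ H)
      exact two_transitive_prime_pow (p := p) (a := a₀) htr hfree hprim hcyc hb2 hcardP
  rcases h2tr with h | h
  · obtain ⟨x, y, hxy⟩ := exists_pair_ne (X ⧸ H)
    rw [is_two_pretransitive_iff] at h
    obtain ⟨g, h1, h2⟩ := h hxy hxy.symm
    exact (no_swap hodd hxy h1 h2).elim
  · exact h

end Cyclic

variable {q p : ℕ} [hq : Fact q.Prime] [hp : Fact p.Prime]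

/-- **Baer.** A coprime linear group with orbits of `p`-power sizes is solvable. -/
theorem solvable_of_orbP (hpq : p ≠ q) : ∀ (n : ℕ) (V : Type u) [CommGroup V] [Finite V],
    (∀ v : V, v ^ q = 1) → ∀ X : Subgroup (MulAut V), ¬ q ∣ Nat.card X → OrbP p X →
    Nat.card V + Nat.card X ≤ n → Group.IsSolvable X := by
  intro n
  induction n using Nat.strong_induction_on with
  | _ n ihn =>
  intro V _ _ hV X hqX hX hn
  classical
  have hcop : ∀ x : V, x ^ p = 1 → x = 1 := by
    intro x hx
    have h := pow_gcd_eq_one.2 ⟨hx, hV x⟩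
    rwa [show Nat.gcd p q = 1 from (Nat.coprime_primes hp.out hq.out).2 hpq, pow_one] at h
  have hxq : ∀ y : X, y ^ q = 1 → y = 1 := fun y hy => by
    by_contra hne
    exact hqX (orderOf_eq_prime hy hne ▸ orderOf_dvd_natCard y)
  by_cases hirr : Irr X
  swap
  · simp only [Irr, not_forall, not_or] at hirr
    obtain ⟨U, hU, hUb, hUt⟩ := hirr
    have hlt : Nat.card U < Nat.card V :=
      lt_of_le_of_ne (Nat.card_le_card_of_injective _ U.subtype_injective)
        fun e => hUt (Subgroup.eq_top_of_card_eq U e)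
    have hlt' : Nat.card (V ⧸ U) < Nat.card V := by
      rw [U.card_eq_card_quotient_mul_card_subgroup]
      refine lt_mul_of_one_lt_right Nat.card_pos ?_
      exact (Subgroup.one_lt_card_iff_ne_bot U).2 hUb
    have hQorb : OrbP p (restrictQuot X U hU).range := by
      refine orbP_range _ fun w => ?_
      obtain ⟨v, rfl⟩ := QuotientGroup.mk_surjective w
      obtain ⟨a, ha⟩ := hX v
      obtain ⟨b, -, hb⟩ := (Nat.dvd_prime_pow hp.out).1 (show
        ((stabilizer (MulAut (V ⧸ U)) (v : V ⧸ U)).comap (restrictQuot X U hU)).index ∣ p ^ a from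
          ha ▸ Subgroup.index_dvd_of_le (fun y hy => by
            rw [Subgroup.mem_comap, mem_stabilizer_iff, MulAut.smul_def, restrictQuot_apply,
              show (y : MulAut V) v = v from Subgroup.mem_subgroupOf.1 hy]))
      exact ⟨b, hb⟩
    haveI h1 := ihn _ (lt_of_lt_of_le (Nat.add_lt_add_of_lt_of_le hlt
      (Nat.le_of_dvd Nat.card_pos (Subgroup.card_range_dvd (restrict X U hU)))) hn) U
      (fun u => Subtype.ext (hV u)) _
      (fun h => hqX (h.trans (Subgroup.card_range_dvd _))) (orbP_restrict hX hU) le_rfl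
    haveI h2 := ihn _ (lt_of_lt_of_le (Nat.add_lt_add_of_lt_of_le hlt'
      (Nat.le_of_dvd Nat.card_pos (Subgroup.card_range_dvd (restrictQuot X U hU)))) hn) (V ⧸ U)
      (fun w => by induction w using QuotientGroup.induction_on with
        | H v => rw [← QuotientGroup.mk_pow, hV, QuotientGroup.mk_one]) _
      (fun h => hqX (h.trans (Subgroup.card_range_dvd _))) hQorb le_rfl
    refine Group.isSolvable_of_isSolvable_injective
      (f := (restrict X U hU).rangeRestrict.prod (restrictQuot X U hU).rangeRestrict) ?_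
    rw [injective_iff_map_eq_one]
    intro y hy
    have hy1 : ∀ u ∈ U, (y : MulAut V) u = u := fun u hu => by
      have h1 := congrArg Subtype.val
        (DFunLike.congr_fun (congrArg (fun t => Subtype.val t.1) hy) (⟨u, hu⟩ : U))
      exact h1
    have hy2 : ∀ v : V, v⁻¹ * (y : MulAut V) v ∈ U := fun v => by
      have h1 := DFunLike.congr_fun (congrArg (fun t => Subtype.val t.2) hy) (v : V ⧸ U)
      exact QuotientGroup.eq.1 (h1.symm : (v : V ⧸ U) = (((y : MulAut V) v : V) : V ⧸ U))
    refine hxq y (Subtype.ext (MulEquiv.ext fun v => ?_))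
    obtain ⟨u, hu, e⟩ : ∃ u ∈ U, (y : MulAut V) v = v * u := ⟨_, hy2 v, (mul_inv_cancel_left _ _).symm⟩
    have hpw : ∀ m : ℕ, ((y : MulAut V) ^ m) v = v * u ^ m := by
      intro m
      induction m with
      | zero => simp
      | succ m ih =>
        rw [pow_succ']
        show (y : MulAut V) (((y : MulAut V) ^ m) v) = _
        rw [ih, map_mul, map_pow, e, hy1 u hu, pow_succ', mul_assoc]
    rw [SubgroupClass.coe_pow, hpw, hV, mul_one]
    rfl
  -- irreducible
  obtain ⟨S⟩ := (inferInstance : Nonempty (Sylow p X))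
  set P := (S : Subgroup X).map X.subtype with hP
  have hPX : P ≤ X := Subgroup.map_subtype_le _
  have hsame := sylow_orbits hX S
  have hPirr : Irr P := fun U hU => hirr U fun x hx u hu => by
    obtain ⟨π, hπ, e⟩ := hsame x hx u
    exact e ▸ hU π hπ u hu
  have hPp : IsPGroup p P := S.2.map _
  by_cases hP0 : P = ⊥
  · haveI : Subsingleton X := ⟨fun x y => Subtype.ext (MulEquiv.ext fun v => by
      obtain ⟨π, hπ, e⟩ := hsame x x.2 v
      obtain ⟨π', hπ', e'⟩ := hsame y y.2 v
      rw [← hP, hP0, Subgroup.mem_bot] at hπ hπ'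
      rw [e, e', hπ, hπ'])⟩
    exact Group.isSolvable_of_comm fun x y => Subsingleton.elim _ _
  by_cases hB : Nonempty (Blocks p P)
  · obtain ⟨B⟩ := hB
    refine solvable_of_blocks hPX hPirr hsame B hX fun U hU Y hYX hY hYU => ?_
    have hlt : Nat.card U < Nat.card V :=
      lt_of_le_of_ne (Nat.card_le_card_of_injective _ U.subtype_injective)
        fun e => hU (Subgroup.eq_top_of_card_eq U e)
    exact ihn _ (lt_of_lt_of_le (Nat.add_lt_add_of_lt_of_le hlt
      ((Nat.le_of_dvd Nat.card_pos (Subgroup.card_range_dvd (restrict Y U hYU))).trans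
        (Nat.le_of_dvd Nat.card_pos (Subgroup.card_dvd_of_le hYX)))) hn) U
      (fun u => Subtype.ext (hV u)) _
      (fun h => hqX (h.trans ((Subgroup.card_range_dvd _).trans (Subgroup.card_dvd_of_le hYX))))
      (orbP_restrict hY hYU) le_rfl
  by_cases hp2 : p = 2
  · subst hp2
    exact solvable_of_card_le_sq hV (card_le_sq (Ne.symm hpq) hV hPp hPirr hP0 hB) hqX hX
  have hcyc : IsCyclic P := by
    by_contra hnc
    obtain ⟨A, hAn, ⟨-, hAp⟩, hA2⟩ := Cfsg.Agent.S0126.result hp2 hPp hnc
    haveI := hAn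
    refine hB (blocks_of_normal hPp hPirr hcop A hAp fun z hz hle => ?_)
    have h1 := Subgroup.card_le_of_le hle
    rw [hA2, Nat.card_zpowers] at h1
    have h2 := Nat.le_of_dvd hp.out.pos (orderOf_dvd_of_pow_eq_one (hAp z hz))
    have h3 : p < p ^ 2 := by nlinarith [hp.out.two_le]
    omega
  refine solvable_cyclic hp2 hX (fun v hv => ?_) S
    (isCyclic_of_injective ((S : Subgroup X).equivMapOfInjective X.subtype X.subtype_injective).toMonoidHom
      ((S : Subgroup X).equivMapOfInjective X.subtype X.subtype_injective).injective) fun N hN hNt => ?_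
  · by_cases hq2 : q = 2
    · exact Or.inr (hq2 ▸ hqX)
    · left
      have h := pow_gcd_eq_one.2 ⟨hv, hV v⟩
      rwa [show Nat.gcd 2 q = 1 from (Nat.coprime_primes Nat.prime_two hq.out).2 (Ne.symm hq2), pow_one] at h
  · haveI := hN
    have hlt : Nat.card N < Nat.card X :=
      lt_of_le_of_ne (Nat.card_le_card_of_injective _ N.subtype_injective)
        fun e => hNt (Subgroup.eq_top_of_card_eq N e)
    have hc := Subgroup.card_map_of_injective (K := N) (f := X.subtype) X.subtype_injective
    haveI := ihn _ (lt_of_lt_of_le (Nat.add_lt_add_of_le_of_lt (le_refl (Nat.card V)) hlt) hn) V hV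
      (N.map X.subtype) (fun h => hqX (h.trans (hc ▸ Subgroup.card_subgroup_dvd_card N)))
      (orbP_normal hp.out hX N) (by rw [hc])
    exact Group.isSolvable_of_isSolvable_injective
      (f := (N.equivMapOfInjective X.subtype X.subtype_injective).toMonoidHom)
      (N.equivMapOfInjective X.subtype X.subtype_injective).injective

end Cfsg.Agent.FGS3.BaerPrime
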