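import Cfsg.Agent.FGS3.BaerPrime.Group
import Cfsg.Agent.FGS3.BaerPrime.OrbitBlocks
import Cfsg.Agent.Screen.TwoGroupNormal
import Cfsg.Agent.OddLocal.UniqueSubgroup

/-!
Linear groups with orbits of `2`-power size: an irreducible `2`-subgroup without blocks lives in
dimension at most two, and in dimension two such groups are solvable.
-/

set_option autoImplicit false
set_option linter.unusedSectionVars false
set_option linter.style.haveILetI false

namespace Cfsg.Agent.FGS3.BaerPrime

open MulAction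

variable {V : Type*} [CommGroup V] [Finite V]

/-- A normal elementary abelian subgroup that is not cyclic gives blocks. -/
theorem blocks_of_normal {p : ℕ} [Fact p.Prime] {P : Subgroup (MulAut V)} (hP : IsPGroup p P)
    (hirr : Irr P) (hcop : ∀ x : V, x ^ p = 1 → x = 1) (A : Subgroup P) [A.Normal]
    (hAp : ∀ a ∈ A, a ^ p = 1) (hA : ∀ z ∈ A, ¬ A ≤ Subgroup.zpowers z) :
    Nonempty (Blocks p P) := by
  have hAb : ¬ A ≤ (⊥ : Subgroup P) := fun h => hA 1 A.one_mem (h.trans bot_le)
  obtain ⟨z, hzA, hz1, hzc⟩ := Screen.exists_central_mod hP A ⊥ hAb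
  have hzc' : ∀ s : P, s * z = z * s := fun s => by
    have h := Subgroup.mem_bot.1 (hzc s)
    rwa [mul_inv_eq_one, mul_inv_eq_iff_eq_mul] at h
  haveI : (Subgroup.zpowers z).Normal := ⟨fun n hn g => by
    obtain ⟨i, rfl⟩ := Subgroup.mem_zpowers_iff.1 hn
    rw [((show Commute g z from hzc' g).zpow_right i).eq, mul_inv_cancel_right]
    exact Subgroup.zpow_mem _ (Subgroup.mem_zpowers z) i⟩
  obtain ⟨w, hwA, hwz, hwc⟩ := Screen.exists_central_mod hP A (Subgroup.zpowers z) (hA z hzA)
  refine blocks_of_pair (z := (z : MulAut V)) (w := (w : MulAut V)) hirr hcop z.2 w.2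
    (fun h => hz1 (Subgroup.mem_bot.2 (Subtype.ext h)))
    (fun g hg => congrArg Subtype.val (hzc' ⟨g, hg⟩)) (congrArg Subtype.val (hAp z hzA))
    (congrArg Subtype.val (hAp w hwA)) ?_ ?_
  · intro h
    obtain ⟨i, hi⟩ := Subgroup.mem_zpowers_iff.1 h
    exact hwz ⟨i, Subtype.ext (by simpa using hi)⟩
  · intro g hg
    obtain ⟨i, hi⟩ := Subgroup.mem_zpowers_iff.1 (hwc ⟨g, hg⟩)
    exact ⟨i, by simpa using congrArg Subtype.val hi⟩

section Arith

theorem two_part {a : ℕ} {k : ℤ} (h : (2 : ℤ) ^ a ∣ k * k - 1) (h4 : (4 : ℤ) ∣ k - 1)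
    (hne : ¬ (2 : ℤ) ^ a ∣ k - 1) : 3 ≤ a ∧ (2 : ℤ) ^ a ∣ k - 1 - 2 ^ (a - 1) := by
  have ha : 3 ≤ a := by
    by_contra ha
    exact hne (dvd_trans (pow_dvd_pow 2 (show a ≤ 2 by omega)) (by norm_num; exact h4))
  refine ⟨ha, ?_⟩
  obtain ⟨u, hu⟩ := h4
  obtain ⟨b, rfl⟩ : ∃ b, a = b + 1 := ⟨a - 1, by omega⟩
  have h1 : (2 : ℤ) * 2 ^ b ∣ 2 * ((k - 1) * (1 + 2 * u)) := by
    rw [← pow_succ']
    refine h.trans (dvd_of_eq ?_)
    rw [show k = 1 + 4 * u by linarith]
    ring
  have h2 := Int.dvd_of_dvd_mul_left_of_gcd_one ((mul_dvd_mul_iff_left two_ne_zero).1 h1) (by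
    rw [← Int.isCoprime_iff_gcd_eq_one]
    exact IsCoprime.pow_left ⟨-u, 1, by ring⟩)
  obtain ⟨w, hw⟩ := h2
  rcases Int.even_or_odd w with ⟨t, ht⟩ | ⟨t, ht⟩
  · exact absurd ⟨t, by rw [hw, ht, pow_succ]; ring⟩ hne
  · exact ⟨t, by rw [hw, ht, Nat.add_sub_cancel, pow_succ]; ring⟩

end Arith

section Ring

/-- Automorphisms as endomorphisms of the additive group. -/
def toEnd : MulAut V →* AddMonoid.End (Additive V) where
  toFun x := MonoidHom.toAdditive x.toMonoidHom
  map_one' := rfl
  map_mul' _ _ := rfl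

theorem toEnd_apply (x : MulAut V) (v : V) : toEnd x (Additive.ofMul v) = Additive.ofMul (x v) := rfl

theorem toEnd_injective : Function.Injective (toEnd (V := V)) := fun _ _ h =>
  MulEquiv.ext fun v => Additive.ofMul.injective (DFunLike.congr_fun h (Additive.ofMul v))

/-- Over an irreducible element the generated ring moves any vector to every vector. -/
theorem exists_ring_elem {d : MulAut V}
    (hd : ∀ U : Subgroup V, (∀ u ∈ U, d u ∈ U) → U = ⊥ ∨ U = ⊤) {v₀ : V} (hv : v₀ ≠ 1) (w : V) :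
    ∃ r ∈ Subring.closure ({toEnd d} : Set (AddMonoid.End (Additive V))),
      r (Additive.ofMul v₀) = Additive.ofMul w := by
  set R := Subring.closure ({toEnd d} : Set (AddMonoid.End (Additive V))) with hR
  let U : Subgroup V :=
    { carrier := {w | ∃ r ∈ R, r (Additive.ofMul v₀) = Additive.ofMul w}
      one_mem' := ⟨0, R.zero_mem, rfl⟩
      mul_mem' := by
        rintro u u' ⟨r, hr, e⟩ ⟨r', hr', e'⟩
        exact ⟨r + r', R.add_mem hr hr', by
          show r (Additive.ofMul v₀) + r' (Additive.ofMul v₀) = _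
          rw [e, e']; rfl⟩
      inv_mem' := by
        rintro u ⟨r, hr, e⟩
        exact ⟨-r, R.neg_mem hr, by show -r (Additive.ofMul v₀) = _; rw [e]; rfl⟩ }
  have hinv : ∀ u ∈ U, d u ∈ U := by
    rintro u ⟨r, hr, e⟩
    exact ⟨toEnd d * r, R.mul_mem (Subring.subset_closure rfl) hr, by
      show toEnd d (r (Additive.ofMul v₀)) = _
      rw [e, toEnd_apply]⟩
  rcases hd U hinv with h | h
  · have h1 : v₀ ∈ U := ⟨1, R.one_mem, rfl⟩
    rw [h, Subgroup.mem_bot] at h1
    exact absurd h1 hv
  · exact (h ▸ Subgroup.mem_top w : w ∈ U)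

end Ring

variable {q : ℕ} [hq : Fact q.Prime]

set_option maxHeartbeats 1600000 in
/-- An irreducible `2`-group of odd characteristic without blocks has dimension at most two. -/
theorem card_le_sq (hq2 : q ≠ 2) (hV : ∀ v : V, v ^ q = 1) {P : Subgroup (MulAut V)}
    (hP : IsPGroup 2 P) (hirr : Irr P) (hnt : P ≠ ⊥) (hnb : ¬ Nonempty (Blocks 2 P)) :
    Nat.card V ≤ q ^ 2 := by
  classical
  have hcop : ∀ x : V, x ^ 2 = 1 → x = 1 := by
    intro x hx
    have h := pow_gcd_eq_one.2 ⟨hx, hV x⟩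
    rwa [show Nat.gcd 2 q = 1 from (Nat.coprime_primes Nat.prime_two hq.out).2 (Ne.symm hq2),
      pow_one] at h
  have hidx2 : ∀ M : Subgroup (MulAut V), M ≤ P → M.relIndex P = 2 → Irr M := fun M hM hM2 => by
    by_contra hred
    exact hnb (blocks_of_index_two hirr hM hM2 hred)
  -- a maximal normal abelian subgroup
  obtain ⟨A, ⟨hAn, hAc⟩, hAmax⟩ := Set.Finite.exists_maximal (Set.toFinite
    {A : Subgroup P | A.Normal ∧ IsMulCommutative A}) ⟨⊥, inferInstance, inferInstance⟩
  haveI := hAn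
  haveI := hAc
  have hself : ∀ g : P, (∀ u ∈ A, u * g = g * u) → g ∈ A := by
    intro g hg
    by_contra hgA
    obtain ⟨c, hc, hcA, hcs⟩ := Screen.exists_central_mod hP (Subgroup.centralizer (A : Set P)) A
      fun h => hgA (h (Subgroup.mem_centralizer_iff.2 hg))
    set B := Subgroup.closure (insert c (A : Set P)) with hB
    have hAB : A ≤ B := fun u hu => Subgroup.subset_closure (Set.mem_insert_of_mem _ hu)
    have hcB : c ∈ B := Subgroup.subset_closure (Set.mem_insert _ _)
    have hBc : IsMulCommutative B := Subgroup.isMulCommutative_closure (by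
      intro x hx y hy
      rcases hx with rfl | hx <;> rcases hy with rfl | hy
      · rfl
      · exact (Subgroup.mem_centralizer_iff.1 hc y hy).symm
      · exact Subgroup.mem_centralizer_iff.1 hc x hx
      · exact congrArg Subtype.val (mul_comm' (⟨x, hx⟩ : A) ⟨y, hy⟩))
    have hBn : B.Normal := ⟨fun x hx h => by
      have hle : B.map (MulAut.conj h).toMonoidHom ≤ B := by
        rw [hB, MonoidHom.map_closure, Subgroup.closure_le]
        rintro _ ⟨u, hu | hu, rfl⟩
        · subst hu
          have := B.mul_mem (hAB (hcs h)) hcB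
          rwa [inv_mul_cancel_right] at this
        · exact hAB (hAn.conj_mem u hu h)
      exact hle ⟨x, hx, rfl⟩⟩
    exact hcA (hAmax ⟨hBn, hBc⟩ hAB hcB)
  -- it is cyclic
  haveI hAcyc : IsCyclic A := by
    by_contra hnc
    let O : Subgroup P :=
      { carrier := {x | x ∈ A ∧ x ^ 2 = 1}
        one_mem' := ⟨A.one_mem, one_pow 2⟩
        mul_mem' := fun {x y} hx hy => ⟨A.mul_mem hx.1 hy.1, by
          rw [(show Commute x y from congrArg Subtype.val
            (mul_comm' (⟨x, hx.1⟩ : A) ⟨y, hy.1⟩)).mul_pow, hx.2, hy.2, one_mul]⟩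
        inv_mem' := fun {x} hx => ⟨A.inv_mem hx.1, by rw [inv_pow, hx.2, inv_one]⟩ }
    haveI : O.Normal := ⟨fun x hx g => ⟨hAn.conj_mem x hx.1 g, by
      rw [conj_pow, hx.2, mul_one, mul_inv_cancel]⟩⟩
    refine hnb (blocks_of_normal hP hirr hcop O (fun a ha => ha.2) fun z hz hle => hnc ?_)
    refine OddLocal.isCyclic_of_uniqueOrderP _ (hP.to_subgroup A) (fun a b ha hb ha1 => ?_)
      (Or.inr fun a b => mul_comm' a b) le_rfl
    have haO : (a : P) ∈ O := ⟨a.2, congrArg Subtype.val ha⟩
    have hbO : (b : P) ∈ O := ⟨b.2, congrArg Subtype.val hb⟩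
    have hzP : ∀ y : P, y ∈ Subgroup.zpowers z → y = 1 ∨ y = z := by
      intro y hy
      obtain ⟨i, rfl⟩ := Subgroup.mem_zpowers_iff.1 hy
      have hz2 : z ^ (2 : ℤ) = 1 := by rw [zpow_two, ← pow_two]; exact hz.2
      rcases Int.even_or_odd i with ⟨t, ht⟩ | ⟨t, ht⟩
      · left; rw [ht, ← two_mul, zpow_mul, hz2, one_zpow]
      · right; rw [ht, zpow_add, zpow_mul, hz2, one_zpow, one_mul, zpow_one]
    have hbne : (a : P) ≠ 1 := fun h => ha1 (Subtype.ext h)
    rcases hzP _ (hle hbO) with h | h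
    · rw [show b = 1 from Subtype.ext h]; exact Subgroup.one_mem _
    · rw [show b = a from Subtype.ext (h.trans ((hzP _ (hle haO)).resolve_left hbne).symm)]
      exact Subgroup.mem_zpowers a
  obtain ⟨c0, hc0⟩ := IsCyclic.exists_zpow_surjective (G := A)
  set c : P := (c0 : P) with hc
  have hmemA : ∀ u : P, u ∈ A ↔ ∃ i : ℤ, c ^ i = u := fun u => by
    constructor
    · intro hu
      obtain ⟨i, hi⟩ := hc0 ⟨u, hu⟩
      exact ⟨i, by simpa [hc] using congrArg Subtype.val hi⟩
    · rintro ⟨i, rfl⟩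
      exact A.zpow_mem c0.2 i
  obtain ⟨a, ha⟩ := IsPGroup.iff_orderOf.1 hP c
  have hord : ∀ i j : ℤ, c ^ i = c ^ j ↔ (2 : ℤ) ^ a ∣ i - j := fun i j => by
    rw [← orderOf_dvd_sub_iff_zpow_eq_zpow, ha]; norm_num
  have hconj : ∀ g : P, ∃ k : ℤ, g * c * g⁻¹ = c ^ k := fun g =>
    ((hmemA _).1 (hAn.conj_mem c c0.2 g)).imp fun _ h => h.symm
  have hcomm : ∀ g : P, g * c * g⁻¹ = c → g ∈ A := fun g hg => hself g fun u hu => by
    obtain ⟨i, rfl⟩ := (hmemA u).1 hu
    have : Commute g c := by
      show g * c = c * g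
      exact mul_inv_eq_iff_eq_mul.1 hg
    exact (this.zpow_right i).eq.symm
  have hkpow : ∀ (g : P) (k i : ℤ), g * c * g⁻¹ = c ^ k → g * c ^ i * g⁻¹ = c ^ (k * i) :=
    fun g k i h => by rw [← conj_zpow, h, zpow_mul]
  -- no automorphism congruent to one
  have hno : ∀ (g : P) (k : ℤ), g * c * g⁻¹ = c ^ k → (4 : ℤ) ∣ k - 1 → g ∈ A := by
    intro g k hk hk4
    by_contra hgA
    obtain ⟨l, hl⟩ := hP g
    have hex : ∃ i, g ^ 2 ^ i ∈ A := ⟨l, by rw [hl]; exact A.one_mem⟩
    obtain ⟨i, hi⟩ : ∃ i, Nat.find hex = i + 1 := Nat.exists_eq_succ_of_ne_zero fun h0 => hgA (by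
      have := Nat.find_spec hex
      rwa [h0, pow_zero, pow_one] at this)
    have hhA : g ^ 2 ^ i ∉ A := Nat.find_min hex (by omega)
    set h := g ^ 2 ^ i with hh
    have hh2 : h ^ 2 ∈ A := by
      rw [hh, ← pow_mul, ← pow_succ, ← hi]
      exact Nat.find_spec hex
    have hpw : ∀ n : ℕ, g ^ n * c * (g ^ n)⁻¹ = c ^ (k ^ n) := by
      intro n
      induction n with
      | zero => simp
      | succ n ih =>
        rw [pow_succ, mul_inv_rev, show g ^ n * g * c * (g⁻¹ * (g ^ n)⁻¹) =
          g ^ n * (g * c * g⁻¹) * (g ^ n)⁻¹ by group, hk, hkpow _ _ k ih, pow_succ]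
    set kh := k ^ (2 ^ i) with hkh
    have hkh' : h * c * h⁻¹ = c ^ kh := hpw _
    have hkh4 : (4 : ℤ) ∣ kh - 1 := hk4.trans (sub_one_dvd_pow_sub_one k _)
    obtain ⟨m, hm⟩ := (hmemA _).1 hh2
    have h22 : (2 : ℤ) ^ a ∣ kh * kh - 1 := by
      rw [← hord, zpow_one]
      have e : h ^ 2 * c * (h ^ 2)⁻¹ = c := by
        rw [← hm, (Commute.zpow_self c m).eq, mul_inv_cancel_right]
      rw [← hkpow h kh kh hkh', ← hkh']
      exact (by rw [pow_two]; group : h * (h * c * h⁻¹) * h⁻¹ = h ^ 2 * c * (h ^ 2)⁻¹).trans e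
    have hkne : ¬ (2 : ℤ) ^ a ∣ kh - 1 := fun hd => hhA (hcomm h (by
      rw [hkh', (hord kh 1).2 hd, zpow_one]))
    obtain ⟨ha3, hkk⟩ := two_part h22 hkh4 hkne
    obtain ⟨b, rfl⟩ : ∃ b, a = b + 3 := ⟨a - 3, by omega⟩
    have e2 : b + 3 - 1 = b + 2 := rfl
    rw [e2] at hkk
    have hmh : (2 : ℤ) ^ (b + 3) ∣ m * kh - m := by
      rw [← hord, mul_comm m, ← hkpow h kh m hkh', hm]
      group
    have hmeven : (2 : ℤ) ∣ m := by
      have h1 : (2 : ℤ) ^ (b + 2) * 2 ∣ 2 ^ (b + 2) * m := by
        rw [← pow_succ]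
        have h2 := dvd_sub hmh (hkk.mul_left m)
        refine h2.trans (dvd_of_eq ?_)
        ring
      exact (mul_dvd_mul_iff_left (pow_ne_zero _ two_ne_zero)).1 h1
    obtain ⟨m', rfl⟩ := hmeven
    -- choose an involution
    obtain ⟨x, y, hxy⟩ : IsCoprime ((2 : ℤ) ^ (b + 2)) (1 + 2 ^ (b + 1)) := by
      refine IsCoprime.pow_left ⟨-(2 ^ b), 1, ?_⟩
      rw [pow_succ]; ring
    set s : ℤ := -m' * y with hs
    set w := c ^ s * h with hw
    have hw2 : w ^ 2 = 1 := by
      have e : w ^ 2 = c ^ s * (h * c ^ s * h⁻¹) * h ^ 2 := by rw [hw, pow_two, pow_two]; group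
      rw [e, hkpow h kh s hkh', ← hm, ← zpow_add, ← zpow_add, ← zpow_zero c, hord, sub_zero]
      have e3 : s + kh * s + 2 * m' =
          s * (kh - 1 - 2 ^ (b + 2)) + 2 ^ (b + 3) * (m' * x) := by
        have : m' * ((2 : ℤ) ^ (b + 2) * x + (1 + 2 ^ (b + 1)) * y) = m' := by
          rw [show (2 : ℤ) ^ (b + 2) * x + (1 + 2 ^ (b + 1)) * y = 1 by linarith, mul_one]
        rw [hs]
        linear_combination (-2 : ℤ) * this
      rw [e3]
      exact dvd_add (hkk.mul_left s) (dvd_mul_right _ _)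
    set z := c ^ ((2 : ℤ) ^ (b + 2)) with hz
    have hz2 : z ^ 2 = 1 := by
      rw [← zpow_natCast, hz, ← zpow_mul, ← zpow_zero c, hord, sub_zero, Nat.cast_two, ← pow_succ]
    have hz1 : z ≠ 1 := by
      rw [hz, ← zpow_zero c, Ne, hord, sub_zero]
      intro hd
      have := Int.le_of_dvd (by positivity) hd
      rw [pow_succ] at this
      have h0 : (0 : ℤ) < 2 ^ (b + 2) := by positivity
      linarith
    have hzc : ∀ t : P, t * z = z * t := by
      intro t
      obtain ⟨kt, hkt⟩ := hconj t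
      rw [← mul_inv_eq_iff_eq_mul, hz, hkpow t kt _ hkt, hord]
      have hodd : (2 : ℤ) ∣ kt - 1 := by
        rcases Int.even_or_odd kt with ⟨u, hu⟩ | ⟨u, hu⟩
        · exfalso
          have h1 : t * z * t⁻¹ = 1 := by
            rw [hz, hkpow t kt _ hkt, ← zpow_zero c, hord, sub_zero, hu]
            exact ⟨u, by rw [pow_succ]; ring⟩
          exact hz1 (conj_eq_one_iff.1 h1)
        · exact ⟨u, by rw [hu]; ring⟩
      obtain ⟨u, hu⟩ := hodd
      exact ⟨u, by rw [pow_succ, show kt = 2 * u + 1 by linarith]; ring⟩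
    refine hnb (blocks_of_pair (z := (z : MulAut V)) (w := (w : MulAut V)) hirr hcop z.2 w.2
      (fun e => hz1 (Subtype.ext e)) (fun t ht => congrArg Subtype.val (hzc ⟨t, ht⟩))
      (congrArg Subtype.val hz2) (congrArg Subtype.val hw2) ?_ ?_)
    · intro e
      obtain ⟨j, hj⟩ := Subgroup.mem_zpowers_iff.1 e
      have hj' : w = z ^ j := Subtype.ext (by simpa using hj.symm)
      refine hhA ((hmemA h).2 ⟨-s + 2 ^ (b + 2) * j, ?_⟩)
      rw [zpow_add, zpow_mul, ← hz, ← hj', hw]; group
    · intro t ht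
      set t' : P := ⟨t, ht⟩
      suffices hkey : t' * w * t'⁻¹ * w⁻¹ ∈ Subgroup.zpowers z by
        obtain ⟨j, hj⟩ := Subgroup.mem_zpowers_iff.1 hkey
        exact ⟨j, by simpa [t'] using congrArg Subtype.val hj⟩
      obtain ⟨kt, hkt⟩ := hconj t'
      -- both act on `c` in the same way
      have hA1 : t' * h * t'⁻¹ * h⁻¹ ∈ A := by
        refine hcomm _ ?_
        obtain ⟨kt', hkt'⟩ := hconj t'⁻¹
        have hkk' : c ^ (kt * kt') = c := by
          rw [← hkpow t' kt kt' hkt, ← hkt']; group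
        obtain ⟨kh', hkh''⟩ := hconj h⁻¹
        have hhh' : c ^ (kh * kh') = c := by
          rw [← hkpow h kh kh' hkh', ← hkh'']; group
        calc t' * h * t'⁻¹ * h⁻¹ * c * (t' * h * t'⁻¹ * h⁻¹)⁻¹
            = t' * (h * (t'⁻¹ * (h⁻¹ * c * h⁻¹⁻¹) * t'⁻¹⁻¹) * h⁻¹) * t'⁻¹ := by group
          _ = c ^ (kt * (kh * (kt' * kh'))) := by
              rw [hkh'', hkpow _ _ _ hkt', hkpow _ _ _ hkh', hkpow _ _ _ hkt]
          _ = (c ^ (kt * kt')) ^ (kh * kh') := by rw [← zpow_mul]; congr 1; ring
          _ = c := by rw [hkk', hhh']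
      obtain ⟨r, hr⟩ := (hmemA _).1 hA1
      have e : t' * w * t'⁻¹ = c ^ (kt * s + r) * h := by
        calc t' * w * t'⁻¹ = (t' * c ^ s * t'⁻¹) * (t' * h * t'⁻¹ * h⁻¹) * h := by rw [hw]; group
          _ = _ := by rw [hkpow t' kt s hkt, ← hr, ← zpow_add]
      have e2 : t' * w * t'⁻¹ * w⁻¹ = c ^ (kt * s + r - s) := by
        rw [e, hw, sub_eq_add_neg (kt * s + r), zpow_add c (kt * s + r), zpow_neg]
        group
      set σ := kt * s + r - s
      have hσ : (2 : ℤ) ^ (b + 3) ∣ σ + kh * σ := by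
        have e5 : (c ^ σ * w) ^ 2 = 1 := by
          rw [← e2, inv_mul_cancel_right, conj_pow, hw2, mul_one, mul_inv_cancel]
        have e6 : (c ^ σ * w) ^ 2 = c ^ σ * (h * c ^ σ * h⁻¹) * w ^ 2 := by
          have e7 : w * c ^ σ * w⁻¹ = h * c ^ σ * h⁻¹ := by
            calc w * c ^ σ * w⁻¹ = c ^ s * (h * c ^ σ * h⁻¹) * (c ^ s)⁻¹ := by rw [hw]; group
              _ = _ := by rw [hkpow h kh σ hkh', (Commute.zpow_zpow_self c s (kh * σ)).eq, mul_inv_cancel_right]
          calc (c ^ σ * w) ^ 2 = c ^ σ * (w * c ^ σ * w⁻¹) * w ^ 2 := by rw [pow_two, pow_two]; group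
            _ = _ := by rw [e7]
        rw [← sub_zero (σ + kh * σ), ← hord, zpow_zero, zpow_add, ← hkpow h kh σ hkh', ← e5, e6, hw2, mul_one]
      have hσ2 : (2 : ℤ) ^ (b + 2) ∣ σ := by
        have h1 : (2 : ℤ) * 2 ^ (b + 2) ∣ 2 * (σ * (1 + 2 ^ (b + 1))) := by
          rw [← pow_succ']
          refine (dvd_sub hσ (hkk.mul_left σ)).trans (dvd_of_eq ?_)
          ring
        refine IsCoprime.dvd_of_dvd_mul_right ?_ ((mul_dvd_mul_iff_left two_ne_zero).1 h1)
        refine IsCoprime.pow_left ⟨-(2 ^ b), 1, ?_⟩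
        rw [pow_succ]; ring
      obtain ⟨u, hu⟩ := hσ2
      exact ⟨u, by rw [e2, hu, zpow_mul]⟩
  -- the cyclic subgroup as a group of automorphisms
  have hA0 : A ≠ ⊥ := by
    intro hbot
    refine hnt (eq_bot_iff.2 fun x hx => ?_)
    have h1 : (⟨x, hx⟩ : P) ∈ A := hcomm _ (by
      have : c = 1 := Subgroup.mem_bot.1 (hbot ▸ c0.2)
      rw [this]; group)
    rw [hbot, Subgroup.mem_bot] at h1
    exact congrArg Subtype.val h1
  have ha1 : 1 ≤ a := by
    rcases Nat.eq_zero_or_pos a with rfl | h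
    · refine absurd (eq_bot_iff.2 fun u hu => ?_) hA0
      obtain ⟨i, rfl⟩ := (hmemA u).1 hu
      rw [Subgroup.mem_bot, orderOf_eq_one_iff.1 (show orderOf c = 1 by rw [ha, pow_zero]), one_zpow]
    · exact h
  have hirrc : ∀ U : Subgroup V, (∀ u ∈ U, (c : MulAut V) u ∈ U) → U = ⊥ ∨ U = ⊤ := by
    have hIrrA : Irr (A.map P.subtype) := by
      by_cases hPA : A = ⊤
      · rw [hPA, ← MonoidHom.range_eq_map, Subgroup.range_subtype]; exact hirr
      obtain ⟨g, hg⟩ : ∃ g, g ∉ A := by
        by_contra! hall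
        exact hPA (eq_top_iff.2 fun u _ => hall u)
      refine hidx2 _ (Subgroup.map_subtype_le A) ?_
      rw [Subgroup.relIndex, Subgroup.subgroupOf, Subgroup.comap_map_eq_self_of_injective P.subtype_injective,
        Subgroup.index_eq_two_iff]
      refine ⟨g, fun b => ?_⟩
      by_cases hb : b ∈ A
      · refine Or.inr ⟨hb, fun h => hg ?_⟩
        have := A.mul_mem (A.inv_mem hb) h
        rwa [inv_mul_cancel_left] at this
      refine Or.inl ⟨?_, hb⟩
      obtain ⟨kg, hkg⟩ := hconj g
      obtain ⟨kb, hkb⟩ := hconj b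
      have hodd : ∀ (t : P) (k : ℤ), t * c * t⁻¹ = c ^ k → t ∉ A → (4 : ℤ) ∣ k - 3 := by
        intro t k hk htA
        have h1 : ¬ (4 : ℤ) ∣ k - 1 := fun h4 => htA (hno t k hk h4)
        have h2 : ¬ (2 : ℤ) ∣ k := by
          rintro ⟨u, rfl⟩
          have hz : c ^ ((2 : ℤ) ^ (a - 1)) ≠ 1 := by
            rw [← zpow_zero c, Ne, hord, sub_zero]
            intro hd
            have h3 := Int.le_of_dvd (by positivity) hd
            rw [show a = a - 1 + 1 by omega, pow_succ, Nat.add_sub_cancel] at h3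
            have h0 : (0 : ℤ) < 2 ^ (a - 1) := by positivity
            linarith
          refine hz ((conj_eq_one_iff (a := t)).1 ?_)
          rw [hkpow t _ _ hk, ← zpow_zero c, hord, sub_zero]
          exact ⟨u, by conv_rhs => rw [show a = a - 1 + 1 by omega, pow_succ]
                       ring⟩
        omega
      refine hno (b * g) (kb * kg) ?_ ?_
      · rw [← hkpow b kb kg hkb, ← hkg]; group
      · obtain ⟨u, hu⟩ := hodd g kg hkg hg
        obtain ⟨v, hv⟩ := hodd b kb hkb hb
        exact ⟨4 * u * v + 3 * u + 3 * v + 2, by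
          rw [show kg = 4 * u + 3 by linarith, show kb = 4 * v + 3 by linarith]; ring⟩
    intro U hU
    refine hIrrA U ?_
    rintro _ ⟨x, hx, rfl⟩ u hu
    obtain ⟨i, rfl⟩ := (hmemA x).1 hx
    have hmap : ∀ n : ℕ, ∀ u ∈ U, ((c : MulAut V) ^ n) u ∈ U := by
      intro n
      induction n with
      | zero => intro u hu; simpa using hu
      | succ n ih => intro u hu; rw [pow_succ]; exact ih _ (hU u hu)
    obtain ⟨n, hn⟩ := mem_powers_iff_mem_zpowers.2 (Subgroup.zpow_mem _ (Subgroup.mem_zpowers (c : MulAut V)) i)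
    show ((c ^ i : P) : MulAut V) u ∈ U
    rw [SubgroupClass.coe_zpow, ← show (c : MulAut V) ^ n = (c : MulAut V) ^ i from hn]
    exact hmap n u hu
  -- the field generated by `c`
  set C := toEnd (c : MulAut V) with hC
  set R := Subring.closure ({C} : Set (AddMonoid.End (Additive V))) with hR
  have hCR : C ∈ R := Subring.subset_closure rfl
  have hRc : ∀ x ∈ R, ∀ y ∈ R, x * y = y * x := by
    have h1 : R ≤ Subring.centralizer {C} :=
      Subring.closure_le.2 (by rintro _ rfl; rw [SetLike.mem_coe, Subring.mem_centralizer_iff]; rintro _ rfl; rfl)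
    intro x hx
    have h2 : R ≤ Subring.centralizer {x} := Subring.closure_le.2 (by
      rintro _ rfl
      rw [SetLike.mem_coe, Subring.mem_centralizer_iff]
      rintro _ rfl
      exact (Subring.mem_centralizer_iff.1 (h1 hx) C rfl).symm)
    intro y hy
    exact Subring.mem_centralizer_iff.1 (h2 hy) x rfl
  letI : CommRing R :=
    { (inferInstance : Ring R) with mul_comm := fun x y => Subtype.ext (hRc x x.2 y y.2) }
  have hinj : ∀ r ∈ R, ∀ v : V, v ≠ 1 → r (Additive.ofMul v) = 0 → r = 0 := by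
    intro r hr v hv hv0
    let U : Subgroup V :=
      { carrier := {u | r (Additive.ofMul u) = 0}
        one_mem' := map_zero r
        mul_mem' := fun {u u'} hu hu' => by
          show r (Additive.ofMul u + Additive.ofMul u') = 0
          rw [map_add, show r (Additive.ofMul u) = 0 from hu, show r (Additive.ofMul u') = 0 from hu', add_zero]
        inv_mem' := fun {u} hu => by
          show r (-Additive.ofMul u) = 0
          rw [map_neg, show r (Additive.ofMul u) = 0 from hu, neg_zero] }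
    rcases hirrc U (fun u hu => by
      show r (toEnd (c : MulAut V) (Additive.ofMul u)) = 0
      have := DFunLike.congr_fun (hRc r hr C hCR) (Additive.ofMul u)
      exact this.trans (by show C (r (Additive.ofMul u)) = 0; rw [show r (Additive.ofMul u) = 0 from hu, map_zero]))
      with h | h
    · exact absurd (Subgroup.mem_bot.1 (h ▸ (show v ∈ U from hv0))) hv
    · exact AddMonoidHom.ext fun u => (h ▸ Subgroup.mem_top (Additive.toMul u) : Additive.toMul u ∈ U)
  obtain ⟨v₀, hv₀⟩ : ∃ v : V, v ≠ 1 := by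
    by_contra! hall
    exact hnt (eq_bot_iff.2 fun x _ => Subgroup.mem_bot.2
      (MulEquiv.ext fun v => by rw [hall v, map_one, map_one]))
  haveI : Nontrivial R := ⟨0, 1, fun h => hv₀ (Additive.ofMul.injective
    (DFunLike.congr_fun (congrArg Subtype.val h) (Additive.ofMul v₀))).symm⟩
  haveI : NoZeroDivisors R := ⟨fun {r s} h => or_iff_not_imp_right.2 fun hs => by
    refine Subtype.ext ?_
    obtain ⟨v, hv⟩ : ∃ v, (s : AddMonoid.End (Additive V)) v ≠ 0 := by
      by_contra! hall
      exact hs (Subtype.ext (AddMonoidHom.ext hall))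
    exact hinj r r.2 (Additive.toMul ((s : AddMonoid.End (Additive V)) v)) (fun e => hv e)
      (DFunLike.congr_fun (congrArg Subtype.val h) v)⟩
  haveI : IsDomain R := NoZeroDivisors.to_isDomain R
  haveI : Finite (AddMonoid.End (Additive V)) :=
    Finite.of_injective (fun f => (f : Additive V → Additive V)) DFunLike.coe_injective
  haveI : Finite R := inferInstance
  letI : Field R := (Finite.isDomain_to_isField R).toField
  haveI : CharP R q := (CharP.charP_iff_prime_eq_zero hq.out).2 (Subtype.ext (AddMonoidHom.ext fun u => by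
    show R.subtype (q : R) u = 0
    rw [map_natCast, AddMonoid.End.natCast_apply]
    exact hV (Additive.toMul u)))
  letI : Algebra (ZMod q) R := ZMod.algebra R q
  letI := Fintype.ofFinite R
  set n := Module.finrank (ZMod q) R with hn
  have hcardR : Nat.card R = q ^ n := by
    rw [Module.natCard_eq_pow_finrank (K := ZMod q), Nat.card_zmod]
  have hcardV : Nat.card V ≤ q ^ n := by
    rw [← hcardR]
    refine Nat.card_le_card_of_surjective
      (fun r : R => Additive.toMul ((r : AddMonoid.End (Additive V)) (Additive.ofMul v₀))) fun w => ?_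
    obtain ⟨r, hr, e⟩ := exists_ring_elem hirrc hv₀ w
    exact ⟨⟨r, hr⟩, e⟩
  set c' : R := ⟨C, hCR⟩ with hc'
  have hC_iff : ∀ m : ℕ, c' ^ m = c' ↔ c ^ (m : ℤ) = c := by
    intro m
    rw [zpow_natCast]
    constructor
    · intro e
      refine Subtype.ext (toEnd_injective ?_)
      rw [SubgroupClass.coe_pow, map_pow]
      exact congrArg Subtype.val e
    · intro e
      refine Subtype.ext ?_
      show C ^ m = C
      rw [hC, ← map_pow, ← SubgroupClass.coe_pow, e]
  have hfix : ∀ i : ℕ, ∀ d : R, Subring.closure ({d} : Set R) = ⊤ → d ^ q ^ i = d → n ∣ i := by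
    intro i d hd hdi
    rw [hn, ← FiniteField.orderOf_frobeniusAlgHom (ZMod q) R, orderOf_dvd_iff_pow_eq_one]
    refine AlgHom.ext fun x => ?_
    rw [AlgHom.coe_pow, FiniteField.coe_frobeniusAlgHom, pow_iterate, ZMod.card, AlgHom.one_apply]
    have hx : x ∈ Subring.closure ({d} : Set R) := hd ▸ Subring.mem_top x
    beta_reduce
    induction hx using Subring.closure_induction with
    | mem y hy => rw [Set.mem_singleton_iff.1 hy]; exact hdi
    | zero => exact zero_pow (pow_ne_zero _ hq.out.ne_zero)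
    | one => exact one_pow _
    | add y z _ _ hy hz => rw [add_pow_char_pow, hy, hz]
    | neg y _ hy => rw [neg_pow, hy, neg_one_pow_char_pow, neg_one_mul]
    | mul y z _ _ hy hz => rw [mul_pow, hy, hz]
  have hgen : ∀ d : R, (∀ U : Subgroup V, (∀ u ∈ U, ∀ e : MulAut V, toEnd e = (d : AddMonoid.End (Additive V)) → e u ∈ U) →
      U = ⊥ ∨ U = ⊤) → (∃ e : MulAut V, toEnd e = (d : AddMonoid.End (Additive V))) →
      Subring.closure ({d} : Set R) = ⊤ := by
    rintro d hd ⟨e, he⟩
    refine eq_top_iff.2 fun r _ => ?_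
    obtain ⟨r', hr', hr'v⟩ := exists_ring_elem (d := e) (fun U hU => hd U fun u hu e' he' => by
      rw [toEnd_injective (he'.trans he.symm)]; exact hU u hu) hv₀
      (Additive.toMul ((r : AddMonoid.End (Additive V)) (Additive.ofMul v₀)))
    rw [he, ← show (Subring.closure ({d} : Set R)).map R.subtype = Subring.closure {(d : AddMonoid.End (Additive V))} by
      rw [RingHom.map_closure, Set.image_singleton]; rfl] at hr'
    obtain ⟨r'', hr'', rfl⟩ := hr'
    suffices h : r = r'' by rw [h]; exact hr''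
    refine Subtype.ext (sub_eq_zero.1 ?_)
    refine hinj _ (R.sub_mem r.2 r''.2) v₀ hv₀ ?_
    show (r : AddMonoid.End (Additive V)) (Additive.ofMul v₀) - (r'' : AddMonoid.End (Additive V)) (Additive.ofMul v₀) = 0
    exact sub_eq_zero.2 hr'v.symm
  have hgenc : Subring.closure ({c'} : Set R) = ⊤ :=
    hgen c' (fun U hU => hirrc U fun u hu => hU u hu _ rfl) ⟨_, rfl⟩
  by_contra hbig
  push Not at hbig
  have hn3 : ¬ n ≤ 2 := fun h => absurd (hcardV.trans (Nat.pow_le_pow_right hq.out.pos h)) (not_le.2 hbig)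
  obtain ⟨j, -, hj⟩ : ∃ j ≤ a, n = 2 ^ j := by
    refine (Nat.dvd_prime_pow Nat.prime_two).1 (hfix _ c' hgenc ?_)
    rw [hC_iff]
    conv_rhs => rw [← zpow_one c]
    rw [hord]
    have h2 : ((2 : ℕ) : ℤ) ∣ (q : ℤ) - 1 := by
      obtain ⟨t, ht⟩ := hq.out.odd_of_ne_two hq2
      exact ⟨t, by rw [ht]; push_cast; ring⟩
    have := dvd_sub_pow_of_dvd_sub h2 a
    push_cast at this ⊢
    rw [one_pow] at this
    exact dvd_trans (pow_dvd_pow 2 a.le_succ) this
  obtain ⟨j, rfl⟩ : ∃ i, j = i + 2 := by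
    refine ⟨j - 2, ?_⟩
    rcases j with _ | _ | j
    · exact absurd hj (fun h => hn3 (by omega))
    · exact absurd hj (fun h => hn3 (by omega))
    · omega
  set m := 2 ^ (j + 1) with hm
  have hnm : n = m + m := by rw [hj, hm, pow_succ 2 (j + 1)]; ring
  set e : ℤ := ((q ^ m : ℕ) : ℤ) with he
  have he4 : (4 : ℤ) ∣ e - 1 := by
    obtain ⟨t, ht⟩ := (hq.out.odd_of_ne_two hq2).pow (n := 2 ^ j)
    rw [he, show q ^ m = (q ^ 2 ^ j) ^ 2 by rw [hm, pow_succ, pow_mul]]
    exact ⟨t * t + t, by rw [ht]; push_cast; ring⟩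
  have hee : (2 : ℤ) ^ a ∣ e * e - 1 := by
    rw [← hord, zpow_one, he, ← Nat.cast_mul, ← pow_add, ← hnm, ← hC_iff, ← hcardR,
      Nat.card_eq_fintype_card, FiniteField.pow_card]
  have hene : ¬ (2 : ℤ) ^ a ∣ e - 1 := by
    rw [← hord, zpow_one, he, ← hC_iff]
    intro h
    have := Nat.le_of_dvd (by positivity) (hfix m c' hgenc h)
    have h0 : 0 < m := by positivity
    omega
  obtain ⟨ha3, hek⟩ := two_part hee he4 hene
  by_cases hPA : A = ⊤
  · -- the square of `c` is irreducible as well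
    refine hene ?_
    rw [← hord, zpow_one, he, ← hC_iff]
    have hc2 : ∀ U : Subgroup V, (∀ u ∈ U, ((c ^ 2 : P) : MulAut V) u ∈ U) → U = ⊥ ∨ U = ⊤ := by
      intro U hU
      refine hidx2 (Subgroup.zpowers ((c ^ 2 : P) : MulAut V))
        (Subgroup.zpowers_le.2 (c ^ 2 : P).2) ?_ U ?_
      · rw [show Subgroup.zpowers ((c ^ 2 : P) : MulAut V) = (Subgroup.zpowers (c ^ 2)).map P.subtype from
          (MonoidHom.map_zpowers P.subtype (c ^ 2)).symm, Subgroup.relIndex, Subgroup.subgroupOf,
          Subgroup.comap_map_eq_self_of_injective P.subtype_injective, Subgroup.index_eq_two_iff]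
        have hev : ∀ i : ℤ, c ^ i ∈ Subgroup.zpowers (c ^ 2) → (2 : ℤ) ∣ i := by
          rintro i ⟨t, ht⟩
          have ht' : c ^ (2 * t) = c ^ i := by rw [zpow_mul, zpow_ofNat]; exact ht
          have h2 := (dvd_pow_self (2 : ℤ) (show a ≠ 0 by omega)).trans ((hord _ _).1 ht'.symm)
          exact (dvd_sub_left (dvd_mul_right 2 t)).1 h2
        refine ⟨c, fun b => ?_⟩
        obtain ⟨i, rfl⟩ := (hmemA b).1 (hPA ▸ Subgroup.mem_top b)
        rcases Int.even_or_odd i with ⟨t, ht⟩ | ⟨t, ht⟩
        · refine Or.inr ⟨⟨t, by show (c ^ 2) ^ t = _; rw [ht, ← two_mul, zpow_mul, zpow_ofNat]⟩, fun h => ?_⟩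
          rw [← zpow_add_one] at h
          have := hev _ h
          omega
        · refine Or.inl ⟨⟨t + 1, by
              show (c ^ 2) ^ (t + 1) = c ^ i * c
              rw [← zpow_add_one, ← zpow_natCast c 2, ← zpow_mul, ht]; congr 1; push_cast; ring⟩, fun h => ?_⟩
          have := hev _ h
          omega
      · intro g hg u hu
        obtain ⟨k, rfl⟩ := mem_powers_iff_mem_zpowers.2 hg
        clear * - hU hu
        induction k generalizing u with
        | zero => simpa using hu
        | succ k ih => simp only [pow_succ]; exact ih _ (hU u hu)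
    have hd := hgen (c' ^ 2) (fun U hU => hc2 U fun u hu => hU u hu _ (by
      rw [SubgroupClass.coe_pow, map_pow]; rfl)) ⟨((c ^ 2 : P) : MulAut V), by
        rw [SubgroupClass.coe_pow, map_pow]; rfl⟩
    have hdm : (c' ^ 2) ^ q ^ m = c' ^ 2 := by
      refine Subtype.ext ?_
      show (C ^ 2) ^ q ^ m = C ^ 2
      suffices h : c ^ (2 * q ^ m) = c ^ 2 by
        have h' := congrArg (fun u : P => toEnd (u : MulAut V)) h
        simpa only [SubgroupClass.coe_pow, map_pow, pow_mul, ← hC] using h'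
      rw [← zpow_natCast, ← zpow_natCast, hord]
      push_cast
      obtain ⟨t, ht⟩ := hek
      refine ⟨2 * t + 1, ?_⟩
      have : (2 : ℤ) * 2 ^ (a - 1) = 2 ^ a := by rw [← pow_succ', Nat.sub_add_cancel (by omega)]
      rw [he, Nat.cast_pow] at ht
      linear_combination (2 : ℤ) * ht + this
    have h := hfix m (c' ^ 2) hd hdm
    have := Nat.le_of_dvd (by positivity) h
    have h0 : 0 < m := by positivity
    omega
  · -- an element inverting `c` modulo four gives a field automorphism
    obtain ⟨g, hg⟩ : ∃ g, g ∉ A := by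
      by_contra! hall
      exact hPA (eq_top_iff.2 fun u _ => hall u)
    obtain ⟨k, hk⟩ := hconj g
    have hkn : ¬ (4 : ℤ) ∣ k - 1 := fun h4 => hg (hno g k hk h4)
    set G := toEnd (g : MulAut V) with hG
    set G' := toEnd ((g : MulAut V)⁻¹) with hG'
    have hGG' : G * G' = 1 := by rw [hG, hG', ← map_mul, mul_inv_cancel, map_one]
    have hG'G : G' * G = 1 := by rw [hG, hG', ← map_mul, inv_mul_cancel, map_one]
    have hgcg : G * C * G' = toEnd ((g * c * g⁻¹ : P) : MulAut V) := by
      rw [hG, hG', hC, ← map_mul, ← map_mul]; rfl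
    have hstab : ∀ x ∈ R, G * x * G' ∈ R := by
      intro x hx
      induction hx using Subring.closure_induction with
      | mem y hy =>
        rw [Set.mem_singleton_iff.1 hy, hgcg, hk]
        obtain ⟨l, hl⟩ : ∃ l : ℕ, c ^ l = c ^ k :=
          mem_powers_iff_mem_zpowers.2 (Subgroup.zpow_mem _ (Subgroup.mem_zpowers c) k)
        rw [← hl, SubgroupClass.coe_pow, map_pow]
        exact R.pow_mem hCR l
      | zero => simp
      | one => rw [mul_one, hGG']; exact R.one_mem
      | add y z _ _ hy hz => rw [mul_add, add_mul]; exact R.add_mem hy hz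
      | neg y _ hy =>
        rw [show G * -y * G' = -(G * y * G') from AddMonoidHom.ext fun u => map_neg G (y (G' u))]
        exact R.neg_mem hy
      | mul y z _ _ hy hz =>
        rw [show G * (y * z) * G' = G * y * G' * (G * z * G') by
          simp only [mul_assoc]; rw [← mul_assoc G' G, hG'G, one_mul]]
        exact R.mul_mem hy hz
    let φ : R →+* R :=
      { toFun := fun x => ⟨G * x * G', hstab x x.2⟩
        map_one' := Subtype.ext (by show G * 1 * G' = 1; rw [mul_one, hGG'])
        map_mul' := fun x y => Subtype.ext (by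
          show G * (x.1 * y.1) * G' = G * x.1 * G' * (G * y.1 * G')
          simp only [mul_assoc]; rw [← mul_assoc G' G, hG'G, one_mul])
        map_zero' := Subtype.ext (by show G * 0 * G' = 0; simp)
        map_add' := fun x y => Subtype.ext (by
          show G * (x.1 + y.1) * G' = G * x.1 * G' + G * y.1 * G'
          rw [mul_add, add_mul]) }
    let φa : R →ₐ[ZMod q] R :=
      { φ with
        commutes' := fun x => RingHom.congr_fun
          (Subsingleton.elim (φ.comp (algebraMap (ZMod q) R)) (algebraMap (ZMod q) R)) x }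
    obtain ⟨⟨i, hi'⟩, hi⟩ := (FiniteField.bijective_frobeniusAlgHom_pow (ZMod q) R).2 φa
    have hci : c ^ ((q ^ i : ℕ) : ℤ) = c ^ k := by
      have h1 := DFunLike.congr_fun hi c'
      simp only [AlgHom.coe_pow, FiniteField.coe_frobeniusAlgHom, pow_iterate, ZMod.card] at h1
      have h2 : C ^ q ^ i = G * C * G' := congrArg Subtype.val h1
      rw [hgcg, hC, ← map_pow, ← SubgroupClass.coe_pow, hk] at h2
      rw [zpow_natCast]
      exact Subtype.ext (toEnd_injective h2)
    have hk2 : c ^ (k * k) = c := by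
      have hg2 : g ^ 2 ∈ A := by
        refine hno (g ^ 2) (k * k) ?_ ?_
        · rw [← hkpow g k k hk, ← hk, pow_two]; group
        · have hkodd : (4 : ℤ) ∣ k * k - 1 := by
            rcases Int.even_or_odd k with ⟨t, ht⟩ | ⟨t, ht⟩
            · exfalso
              have hd := (hord _ _).1 hci
              obtain ⟨u, hu⟩ := (hq.out.odd_of_ne_two hq2).pow (n := i)
              have h2 : (2 : ℤ) ∣ ((q ^ i : ℕ) : ℤ) - k :=
                (dvd_pow_self (2 : ℤ) (show a ≠ 0 by omega)).trans hd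
              rw [hu, ht] at h2
              push_cast at h2
              omega
            · exact ⟨t * t + t, by rw [ht]; ring⟩
          exact hkodd
      obtain ⟨r, hr⟩ := (hmemA _).1 hg2
      calc c ^ (k * k) = g ^ 2 * c * (g ^ 2)⁻¹ := by rw [← hkpow g k k hk, ← hk, pow_two]; group
        _ = c := by rw [← hr, (Commute.zpow_self c r).eq, mul_inv_cancel_right]
    have hn2i : n ∣ i + i := by
      refine hfix _ c' hgenc ?_
      rw [hC_iff, pow_add, Nat.cast_mul, zpow_mul, hci, ← zpow_mul, mul_comm k, zpow_mul, hci, ← zpow_mul, hk2]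
    have hin : i < n := hi'
    have him : i = 0 ∨ i = m := by
      obtain ⟨t, ht⟩ := hn2i
      rcases t with _ | _ | t
      · omega
      · omega
      · exfalso; nlinarith
    have hd := (hord _ _).1 hci
    have h4a : (4 : ℤ) ∣ 2 ^ a := ⟨2 ^ (a - 2), by
      conv_lhs => rw [show a = 2 + (a - 2) by omega, pow_add]
      norm_num⟩
    refine hkn ?_
    rcases him with rfl | rfl
    · have := h4a.trans hd
      rw [pow_zero, Nat.cast_one] at this
      rwa [dvd_sub_comm] at this
    · have h5 := dvd_sub he4 (h4a.trans hd)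
      rwa [he, sub_sub_sub_cancel_left] at h5

/-- In dimension at most two a group with orbits of `2`-power size is solvable. -/
theorem solvable_of_card_le_sq (hV : ∀ v : V, v ^ q = 1) (hcard : Nat.card V ≤ q ^ 2)
    {X : Subgroup (MulAut V)} (hqX : ¬ q ∣ Nat.card X) (hX : OrbP 2 X) : Group.IsSolvable X := by
  classical
  by_cases hcyc : IsCyclic V
  · exact isSolvable_of_normal_quotient (⊥ : Subgroup X)
      (((IsCyclic.mulAutMulEquiv V).toMonoidHom).comp X.subtype) (by
        rw [le_bot_iff, MonoidHom.ker_eq_bot_iff]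
        exact (IsCyclic.mulAutMulEquiv V).injective.comp X.subtype_injective)
  obtain ⟨d, hd⟩ := IsPGroup.iff_card.1 (show IsPGroup q V from fun v => ⟨1, by rw [pow_one]; exact hV v⟩)
  have hd2 : d = 2 := by
    have h1 : d ≤ 2 := (Nat.pow_le_pow_iff_right hq.out.one_lt).1 (hd ▸ hcard)
    rcases d with _ | _ | d
    · haveI : Subsingleton V := (Nat.card_eq_one_iff_unique.1 (by simpa using hd)).1
      exact hcyc.elim inferInstance
    · exact absurd (isCyclic_of_prime_card (by simpa using hd)) hcyc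
    · omega
  subst hd2
  letI : Module (ZMod q) (Additive V) := AddCommGroup.zmodModule (n := q) (G := Additive V) (fun v => hV (Additive.toMul v))
  haveI : Finite (Additive V) := Finite.of_equiv V Additive.ofMul
  haveI : Module.Finite (ZMod q) (Additive V) := Module.Finite.of_finite
  have hfin : Module.finrank (ZMod q) (Additive V) = 2 := by
    have h1 : Nat.card (Additive V) = q ^ Module.finrank (ZMod q) (Additive V) := by
      rw [Module.natCard_eq_pow_finrank (K := ZMod q) (V := Additive V), Nat.card_zmod]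
    exact Nat.pow_right_injective hq.out.two_le (h1.symm.trans hd)
  let b := Module.finBasisOfFinrankEq (ZMod q) (Additive V) hfin
  let F : MulAut V → (Additive V →ₗ[ZMod q] Additive V) := fun x =>
    (MonoidHom.toAdditive x.toMonoidHom : Additive V →+ Additive V).toZModLinearMap q
  have hF : ∀ (x : MulAut V) (u : Additive V), F x u = Additive.ofMul (x (Additive.toMul u)) :=
    fun x u => rfl
  let E : MulAut V →* Module.End (ZMod q) (Additive V) :=
    { toFun := F
      map_one' := LinearMap.ext fun u => (hF 1 u).trans rfl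
      map_mul' := fun x y => LinearMap.ext fun u => by
        show F (x * y) u = F x (F y u)
        rw [hF, hF, hF]; rfl }
  let ψ : X →* Module.End (ZMod q) (Additive V) := E.comp X.subtype
  let M : X →* Matrix (Fin 2) (Fin 2) (ZMod q) :=
    (LinearMap.toMatrixAlgEquiv b).toMonoidHom.comp ψ
  let δ : X →* (ZMod q)ˣ := ((Matrix.detMonoidHom).comp M).toHomUnits
  have hK : IsPGroup 2 δ.ker := by
    intro x
    obtain ⟨k, hk⟩ := Nat.exists_eq_pow_mul_and_not_dvd (Nat.card_pos (α := δ.ker)).ne' 2 (by norm_num)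
    by_contra hcon
    obtain ⟨l, hl, hlx, hl2⟩ : ∃ l, l.Prime ∧ l ∣ orderOf x ∧ l ≠ 2 := by
      by_contra hno
      push Not at hno
      exact hcon ⟨_, by rw [← Nat.eq_prime_pow_of_unique_prime_dvd (orderOf_pos x).ne'
        (fun {d} hd hdx => hno d hd hdx), pow_orderOf_eq_one]⟩
    haveI := Fact.mk hl
    set y := x ^ (orderOf x / l) with hy
    have hyo : orderOf y = l := orderOf_pow_orderOf_div (orderOf_pos x).ne' hlx
    have hyX : orderOf (y : X) = l := by rw [Subgroup.orderOf_coe, hyo]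
    -- a fixed vector
    obtain ⟨v₁, hv₁⟩ : ∃ v : V, v ≠ 1 := by
      by_contra! hall
      haveI : Subsingleton V := ⟨fun u w => by rw [hall u, hall w]⟩
      exact hcyc inferInstance
    obtain ⟨a, ha⟩ := hX v₁
    obtain ⟨S, hS⟩ := exists_sylow_le (q := l) (H := (stabilizer (MulAut V) v₁).subgroupOf X)
      (by rw [← Subgroup.relIndex, ha]
          exact fun h => hl2 ((Nat.prime_dvd_prime_iff_eq hl Nat.prime_two).1 (hl.dvd_of_dvd_pow h)))
    obtain ⟨g, hg⟩ := exists_conj_mem S (x := (y : X)) ⟨1, by rw [pow_one]; exact hyX⟩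
    set v := (g : MulAut V)⁻¹ v₁ with hv
    have hfix : ((y : X) : MulAut V) v = v := by
      have h1 : ((g * y * g⁻¹ : X) : MulAut V) v₁ = v₁ := hS hg
      rw [hv]
      apply (g : MulAut V).injective
      rw [MulAut.apply_inv_self]
      exact h1
    have hvne : v ≠ 1 := fun e => hv₁ (by
      have := congrArg (g : MulAut V) e
      rwa [hv, MulAut.apply_inv_self, map_one] at this)
    set N := M (y : X) with hN
    have hdet : N.det = 1 := congrArg Units.val (MonoidHom.mem_ker.1 y.2)
    have hch : N * N - N.trace • N + (1 : Matrix (Fin 2) (Fin 2) (ZMod q)) = 0 := by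
      have h := Matrix.aeval_self_charpoly N
      rw [Matrix.charpoly_fin_two, hdet] at h
      simpa [pow_two, Algebra.smul_def] using h
    have hch' : ψ y * ψ y - N.trace • ψ y + 1 = 0 := by
      apply (LinearMap.toMatrixAlgEquiv b).injective
      rw [map_zero, map_add, map_sub, map_mul, map_smul, map_one]
      exact hch
    have htr : N.trace = 2 := by
      have h := LinearMap.congr_fun hch' (Additive.ofMul v)
      have hψv : ψ y (Additive.ofMul v) = Additive.ofMul v := congrArg Additive.ofMul hfix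
      simp only [LinearMap.add_apply, LinearMap.sub_apply, Module.End.mul_apply, LinearMap.smul_apply,
        hψv, Module.End.one_apply, LinearMap.zero_apply] at h
      have h2 : ((2 : ZMod q) - N.trace) • Additive.ofMul v = 0 := by
        rw [sub_smul, two_smul, ← h]; abel
      exact (sub_eq_zero.1 ((smul_eq_zero.1 h2).resolve_right fun e => hvne e)).symm
    have hsq : (N - 1) * (N - 1) = 0 := by
      rw [htr, two_smul] at hch
      rw [← hch]; noncomm_ring
    have hNq : N ^ q = 1 := by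
      have h := sub_pow_char_of_commute (p := q) (Commute.one_right N)
      rw [one_pow] at h
      rw [← sub_eq_zero, ← h]
      have h2 : ∀ k, 2 ≤ k → (N - 1) ^ k = 0 := fun k hk => by
        obtain ⟨t, rfl⟩ := Nat.exists_eq_add_of_le hk
        rw [pow_add, pow_two, hsq, zero_mul]
      exact h2 q hq.out.two_le
    have hyq : (y : X) ^ q = 1 := by
      refine Subtype.ext (MulEquiv.ext fun u => ?_)
      have h1 : ψ ((y : X) ^ q) = 1 := by
        apply (LinearMap.toMatrixAlgEquiv b).injective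
        rw [map_pow, map_pow, map_one]; exact hNq
      exact Additive.ofMul.injective (LinearMap.congr_fun h1 (Additive.ofMul u))
    refine hqX (((Nat.prime_dvd_prime_iff_eq hl hq.out).1 (hyX ▸ orderOf_dvd_of_pow_eq_one hyq)) ▸ ?_)
    exact hyX ▸ orderOf_dvd_natCard (y : X)
  haveI := hK.isNilpotent
  exact isSolvable_of_normal_quotient δ.ker δ le_rfl

end Cfsg.Agent.FGS3.BaerPrime
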