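import Cfsg.Agent.FGS3.BaerPrime.Group
import Cfsg.Agent.FGS3.BaerPrime.OrbitSolvable
import Cfsg.Agent.Transfer.Burnside

/-!
Assembly of Baer's theorem on classes of prime power size.
-/

set_option autoImplicit false
set_option linter.unusedSectionVars false
set_option linter.style.haveILetI false

namespace Cfsg.Agent.FGS3.BaerPrime

open MulAction

universe u

variable {G : Type u} [Group G] [Finite G] {q : ℕ} [hq : Fact q.Prime]

/-- A central Sylow subgroup is a direct factor. -/
theorem direct_of_central (Q : Sylow q G) (h : ∀ z ∈ (Q : Subgroup G), z ∈ Subgroup.center G) :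
    (Q : Subgroup G).Normal ∧ ∃ N : Subgroup G, N.Normal ∧ N.IsComplement' (Q : Subgroup G) := by
  haveI hQn : (Q : Subgroup G).Normal := ⟨fun z hz g => by
    rw [Subgroup.mem_center_iff.1 (h z hz) g, mul_inv_cancel_right]; exact hz⟩
  obtain ⟨P, N, hN, hNP⟩ := Transfer.hasNormalPComplement_of_normalizer_le_centralizer Q
    (fun g _ => Subgroup.mem_centralizer_iff.2 fun z hz => (Subgroup.mem_center_iff.1 (h z hz) g).symm)
  haveI := Sylow.unique_of_normal Q hQn
  rw [Subsingleton.elim P Q] at hNP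
  exact ⟨hQn, N, hN, hNP⟩

/-- `O_{p,q}(G) = O_p(G) Q` when all elements of `q`-power order have classes of `p`-power size. -/
theorem L_eq_sup {p : ℕ} [Fact p.Prime] (Q : Sylow q G)
    (hp : ∀ x : G, (∃ k, orderOf x = q ^ k) → PPow p x) :
    L q p G = Cfsg.pCore p G ⊔ (Q : Subgroup G) := by
  refine le_antisymm ?_ (sup_le ?_ fun x hx => mem_L (q_element_of_mem hx) (hp x (q_element_of_mem hx)))
  · have h : Cfsg.pCore q (G ⧸ Cfsg.pCore p G) ≤
        (Q : Subgroup G).map (QuotientGroup.mk' (Cfsg.pCore p G)) :=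
      Core.pCore_le_sylow (Q.mapSurjective (QuotientGroup.mk'_surjective _))
    refine le_trans (Subgroup.comap_mono (f := QuotientGroup.mk' (Cfsg.pCore p G)) h) ?_
    rw [Subgroup.comap_map_eq, QuotientGroup.ker_mk', sup_comm]
  · intro x hx
    rw [L, Subgroup.mem_comap, (QuotientGroup.eq_one_iff x).2 hx |>
      fun e : QuotientGroup.mk' (Cfsg.pCore p G) x = 1 => e]
    exact Subgroup.one_mem _

/-- With trivial `q'`-core and a normal abelian Sylow subgroup the group is solvable. -/
theorem solvable_of_normal_sylow {p : ℕ} [hp : Fact p.Prime] (hpq : p ≠ q) (Q : Sylow q G)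
    [(Q : Subgroup G).Normal] (hab : ∀ x ∈ (Q : Subgroup G), ∀ z ∈ (Q : Subgroup G), x * z = z * x)
    (hcore : Cfsg.pPrimeCore q G = ⊥) (hpp : ∀ x ∈ (Q : Subgroup G), PPow p x) :
    Group.IsSolvable G := by
  classical
  -- the centraliser of `Q` is `Q`
  set C := Subgroup.centralizer ((Q : Subgroup G) : Set G) with hC
  have hQC : (Q : Subgroup G) ≤ C := fun x hx => Subgroup.mem_centralizer_iff.2 fun z hz => hab z hz x hx
  have hCQ : C ≤ (Q : Subgroup G) := by
    let QC : Sylow q C := Q.subtype hQC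
    obtain ⟨-, N, hN, hNQ⟩ := direct_of_central QC fun z hz => Subgroup.mem_center_iff.2 fun g =>
      Subtype.ext (Subgroup.mem_centralizer_iff.1 g.2 z hz).symm
    have hle : N ≤ Cfsg.pPrimeCore q C := Core.le_pPrimeCore hN (by
      rw [← hNQ.index_eq_card]
      exact ((hq.out.coprime_iff_not_dvd).2 QC.not_dvd_index).symm)
    have h1 : (Cfsg.pPrimeCore q C).map C.subtype ≤ Cfsg.pPrimeCore q G :=
      Core.le_pPrimeCore inferInstance (by
        rw [Subgroup.card_map_of_injective C.subtype_injective]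
        exact Core.card_pPrimeCore_coprime q C)
    rw [hcore, le_bot_iff, Subgroup.map_eq_bot_iff_of_injective _ C.subtype_injective] at h1
    have hNb : N = ⊥ := le_bot_iff.1 (hle.trans h1.le)
    have hQt : (QC : Subgroup C) = ⊤ := by
      have := hNQ.sup_eq_top
      rwa [hNb, bot_sup_eq] at this
    intro x hx
    have : (⟨x, hx⟩ : C) ∈ (QC : Subgroup C) := hQt ▸ Subgroup.mem_top _
    exact this
  -- the elements of order `q`
  let V : Subgroup G :=
    { carrier := {x | x ∈ (Q : Subgroup G) ∧ x ^ q = 1}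
      one_mem' := ⟨Subgroup.one_mem _, one_pow q⟩
      mul_mem' := fun {x y} hx hy => ⟨Subgroup.mul_mem _ hx.1 hy.1, by
        rw [(show Commute x y from hab x hx.1 y hy.1).mul_pow, hx.2, hy.2, one_mul]⟩
      inv_mem' := fun {x} hx => ⟨Subgroup.inv_mem _ hx.1, by rw [inv_pow, hx.2, inv_one]⟩ }
  haveI : V.Normal := ⟨fun x hx g => ⟨(inferInstance : (Q : Subgroup G).Normal).conj_mem x hx.1 g, by
    rw [conj_pow, hx.2, mul_one, mul_inv_cancel]⟩⟩
  letI : CommGroup V :=
    { (inferInstance : Group V) with mul_comm := fun x y => Subtype.ext (hab x x.2.1 y y.2.1) }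
  let φ : G →* MulAut V := MulAut.conjNormal
  have hφ : ∀ (g : G) (x : V), ((φ g x : V) : G) = g * x * g⁻¹ := fun g x => MulAut.conjNormal_apply g x
  have hker : ∀ g, g ∈ φ.ker ↔ ∀ x ∈ V, g * x = x * g := fun g => by
    rw [MonoidHom.mem_ker]
    constructor
    · intro h x hx
      have := congrArg Subtype.val (DFunLike.congr_fun h (⟨x, hx⟩ : V))
      rw [hφ] at this
      exact mul_inv_eq_iff_eq_mul.1 this
    · exact fun h => MulEquiv.ext fun x => Subtype.ext (by rw [hφ, h x x.2, mul_inv_cancel_right]; rfl)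
  have hQker : (Q : Subgroup G) ≤ φ.ker := fun g hg => (hker g).2 fun x hx => hab g hg x hx.1
  -- the kernel is a `q`-group
  have hkerQ : φ.ker ≤ (Q : Subgroup G) := by
    intro g hg
    obtain ⟨e, m, hm, hem⟩ := Nat.exists_eq_pow_mul_and_not_dvd (orderOf_pos g).ne' q hq.out.ne_one
    set y := g ^ q ^ e with hy
    have hym : y ^ m = 1 := by rw [hy, ← pow_mul, ← hem, pow_orderOf_eq_one]
    have hyk := (hker y).1 (φ.ker.pow_mem hg _)
    have key : ∀ k : ℕ, ∀ x ∈ (Q : Subgroup G), x ^ q ^ k = 1 → y * x = x * y := by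
      intro k
      induction k with
      | zero => intro x _ hx; rw [pow_zero, pow_one] at hx; rw [hx, one_mul, mul_one]
      | succ k ih =>
        intro x hxQ hx
        have hxq : y * x ^ q = x ^ q * y := ih (x ^ q) (Subgroup.pow_mem _ hxQ q) (by
          rw [← pow_mul, ← pow_succ']; exact hx)
        have hconj : y * x * y⁻¹ ∈ (Q : Subgroup G) := (inferInstance : (Q : Subgroup G).Normal).conj_mem x hxQ y
        set t := y * x * y⁻¹ * x⁻¹ with ht
        have htV : t ∈ V := by
          refine ⟨Subgroup.mul_mem _ hconj (Subgroup.inv_mem _ hxQ), ?_⟩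
          rw [ht, (show Commute (y * x * y⁻¹) x⁻¹ from hab _ hconj _ (Subgroup.inv_mem _ hxQ)).mul_pow,
            conj_pow, hxq, mul_inv_cancel_right, inv_pow, mul_inv_cancel]
        have hyt : Commute y t := hyk t htV
        have hpw : ∀ n : ℕ, y ^ n * x * (y ^ n)⁻¹ = t ^ n * x := by
          intro n
          induction n with
          | zero => simp
          | succ n ihn =>
            calc y ^ (n + 1) * x * (y ^ (n + 1))⁻¹ = y * (y ^ n * x * (y ^ n)⁻¹) * y⁻¹ := by
                  rw [pow_succ']; group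
              _ = y * t ^ n * x * y⁻¹ := by rw [ihn]; group
              _ = t ^ n * (y * x * y⁻¹ * x⁻¹) * x := by rw [(hyt.pow_right n).eq]; group
              _ = t ^ (n + 1) * x := by rw [← ht, pow_succ]
        have h1 := hpw m
        rw [hym, inv_one, one_mul, mul_one] at h1
        have h2 : t ^ m = 1 := mul_eq_right.1 h1.symm
        have h3 : t = 1 := by
          have h := pow_gcd_eq_one.2 ⟨h2, htV.2⟩
          rwa [show Nat.gcd m q = 1 from ((hq.out.coprime_iff_not_dvd).2 hm).symm, pow_one] at h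
        rw [ht, mul_inv_eq_one, mul_inv_eq_iff_eq_mul] at h3
        exact h3
    have hyQ : y ∈ (Q : Subgroup G) := hCQ (Subgroup.mem_centralizer_iff.2 fun x hx => by
      obtain ⟨k, hk⟩ := q_element_of_mem (Q := Q) hx
      exact (key k x hx (hk ▸ pow_orderOf_eq_one x)).symm)
    have hy1 : y = 1 := by
      obtain ⟨k, hk⟩ := q_element_of_mem (Q := Q) hyQ
      have h := pow_gcd_eq_one.2 ⟨hym, hk ▸ pow_orderOf_eq_one y⟩
      rwa [show Nat.gcd m (q ^ k) = 1 from (((hq.out.coprime_iff_not_dvd).2 hm).symm.pow_right k), pow_one] at h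
    have hgp : IsPGroup q (Subgroup.zpowers g) := by
      rintro ⟨z, j, rfl⟩
      refine ⟨e, Subtype.ext ?_⟩
      show (g ^ j) ^ q ^ e = 1
      rw [← zpow_natCast (g ^ j), ← zpow_mul, mul_comm, zpow_mul, zpow_natCast, ← hy, hy1, one_zpow]
    obtain ⟨S, hS⟩ := hgp.exists_le_sylow
    haveI := Sylow.unique_of_normal Q ‹_›
    exact Subsingleton.elim S Q ▸ hS (Subgroup.mem_zpowers g)
  have hcard : ¬ q ∣ Nat.card φ.range := by
    rw [← Subgroup.index_ker]
    exact fun h => Q.not_dvd_index (h.trans (Subgroup.index_dvd_of_le hQker))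
  have horb : OrbP p φ.range := orbP_range φ fun v => by
    obtain ⟨a, ha⟩ := hpp v v.2.1
    refine ⟨a, ?_⟩
    rw [← ha]
    congr 1
    ext g
    rw [Subgroup.mem_comap, mem_stabilizer_iff, MulAut.smul_def, Subgroup.mem_centralizer_singleton_iff]
    exact ⟨fun h => mul_inv_eq_iff_eq_mul.1 ((hφ g v).symm.trans (congrArg Subtype.val h)),
      fun h => Subtype.ext (by rw [hφ, h, mul_inv_cancel_right])⟩
  haveI := solvable_of_orbP hpq _ V (fun v => Subtype.ext v.2.2) φ.range hcard horb le_rfl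
  haveI : Group.IsSolvable (Q : Subgroup G) := by
    haveI := Q.2.isNilpotent
    infer_instance
  refine Group.isSolvable_of_ker_le_range (Q : Subgroup G).subtype φ.rangeRestrict ?_
  rw [Subgroup.range_subtype, MonoidHom.ker_rangeRestrict]
  exact hkerQ

/-- The solvability of `G/O_{q'}(G)`. -/
theorem solvable_quotient {p : ℕ} [hp : Fact p.Prime] (hpq : p ≠ q) (Q : Sylow q G)
    (hab : ∀ x ∈ (Q : Subgroup G), ∀ z ∈ (Q : Subgroup G), x * z = z * x)
    (hpp : ∀ x : G, (∃ k, orderOf x = q ^ k) → PPow p x)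
    (hsup : (Cfsg.pCore p G ⊔ (Q : Subgroup G)).Normal) [(Cfsg.pPrimeCore q G).Normal] :
    Group.IsSolvable (G ⧸ Cfsg.pPrimeCore q G) := by
  set f := QuotientGroup.mk' (Cfsg.pPrimeCore q G) with hf
  have hfs : Function.Surjective f := QuotientGroup.mk'_surjective _
  let Qb := Q.mapSurjective hfs
  have hQb : (Qb : Subgroup _) = (Q : Subgroup G).map f := Sylow.coe_mapSurjective hfs Q
  haveI : (Qb : Subgroup (G ⧸ Cfsg.pPrimeCore q G)).Normal := by
    have hle : Cfsg.pCore p G ≤ f.ker := by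
      rw [hf, QuotientGroup.ker_mk']
      refine Core.le_pPrimeCore inferInstance ?_
      obtain ⟨k, hk⟩ := IsPGroup.iff_card.1 (Core.isPGroup_pCore p G)
      rw [hk]
      exact ((Nat.coprime_primes hp.out hq.out).2 hpq).pow_left k
    have : (Q : Subgroup G).map f = (Cfsg.pCore p G ⊔ (Q : Subgroup G)).map f := by
      rw [Subgroup.map_sup, (Subgroup.map_eq_bot_iff _).2 hle, bot_sup_eq]
    rw [hQb, this]
    exact hsup.map f hfs
  refine solvable_of_normal_sylow hpq Qb ?_ (Core.pPrimeCore_quotient_pPrimeCore q G) ?_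
  · intro x hx z hz
    rw [hQb] at hx hz
    obtain ⟨x, hxQ, rfl⟩ := hx
    obtain ⟨z, hzQ, rfl⟩ := hz
    rw [← map_mul, ← map_mul, hab x hxQ z hzQ]
  · intro x hx
    rw [hQb] at hx
    obtain ⟨x, hxQ, rfl⟩ := hx
    obtain ⟨a, ha⟩ := hpp x (q_element_of_mem hxQ)
    have hle : (Subgroup.centralizer ({x} : Set G)).map f ≤ Subgroup.centralizer ({f x} : Set _) := by
      rintro _ ⟨g, hg, rfl⟩
      rw [Subgroup.mem_centralizer_singleton_iff, ← map_mul, ← map_mul,
        Subgroup.mem_centralizer_singleton_iff.1 hg]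
    obtain ⟨b, -, hb⟩ := (Nat.dvd_prime_pow hp.out).1 (ha ▸ (Subgroup.index_dvd_of_le hle).trans
      (Subgroup.index_map_dvd _ hfs))
    exact ⟨b, hb⟩

end Cfsg.Agent.FGS3.BaerPrime
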